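import Cfsg.Agent.Mrg.Omega.Lie.End.RowFE_m3
import Cfsg.Agent.H519.LieRank
import Cfsg.Agent.Nodes.RGDLift
import Cfsg.Agent.H905.DCTypes
import Cfsg.Agent.Mrg.Omega.ML.Ex.Typ.Frame_m3
import Cfsg.Agent.H716.RGDAbMinus
import Cfsg.Agent.Mrg.ParSys.Fam.TwoFFour
import Cfsg.Agent.ChevalleyStructure.TwF4.WeylDih
import Cfsg.Agent.Tits.Labels
import Cfsg.Agent.Tits.Generic
import Cfsg.Agent.S1068
import Cfsg.Agent.H996.AllSplit_m3
import Cfsg.Agent.H794.PsuNotAb
import Cfsg.Agent.FastGrp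
import Cfsg.Agent.Prune
set_option linter.all false

section
prune_inst 0x7ffdefffbbf87ddfffff7e7ff69ccffc39921fffe6dff94bffe469ff2fdf330249e5fba58de010fe0ed7e21c10b87853fbffde7fe36bfc7ffffd1ff45ffbee1ff5f6bd0871de8cb40fbc6fffe3f07f8e7f3fffffffffffffffffffffffffffbeffbfffffffff

-- part: H905/DCMain
section
set_option linter.all false
open scoped Cfsg.Agent.FastGrp

-- part: H905/DCCover
section
/-!
# Central extensions by `p'`-groups (helper905)

`f : Y →* Y'` onto, `ker f` central of order prime to `p`.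

* `sysLift` : a system of Sylow groups of `Y'` lifts to one of `Y`, on the same building;
* `HasSysT p M Y` : `Y` acts on a thick building of type `M` with a system of Sylow `p`-groups;
* `hasRGDT_lift` : if `Y` is perfect and `Y'` has a root group datum of type `M`, then `Y` has one;
* `exists_rgd_lift` : the same with the data (`X = lft p f ∘ X'`, `T = f⁻¹ T'`, `f ∘ n = n'`).
-/

set_option autoImplicit false
set_option linter.unusedSectionVars false

namespace Cfsg.Agent.H905.DC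

open Cfsg.Agent.Tits.Core Cfsg.Agent.Tits.Core.Bldg Cfsg.Agent.Tits.Exchange Cfsg.Agent.Tits
open Cfsg.Agent.FixBN Cfsg.Agent.FixBN.Cox Cfsg.Agent.Omega.CR Cfsg.Agent.Omega.CR.Bl
open Cfsg.Agent.Nodes.RGDLift

universe u v

section sys

variable {I : Type*} {M : CoxeterMatrix I} {W : Type*} [Group W] {cs : CoxeterSystem M W} {C : Type*}
  {Δ : Bldg cs C}

variable {Y Y' : Type*} [Group Y] [Group Y'] [Finite Y] [MulAction Y' C] {p : ℕ} [Fact p.Prime]
  (S : Sys Δ Y' p) (f : Y →* Y') (hf : f.ker ≤ Subgroup.center Y) (hp : (Nat.card f.ker).Coprime p)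
  (hs : Function.Surjective f)

/-- the system of a central extension -/
@[reducible] def sysLift : @Sys I M W _ cs C Δ Y _ (MulAction.compHom C f) p :=
  letI : MulAction Y C := MulAction.compHom C f
  { iso := fun g x y => S.iso (f g) x y
    U := fun x => lft p f (S.U x)
    fix := fun x u hu => S.fix x (f u) ((mem_lft hf (S.isP x)).1 hu).1
    isP := fun x => isPGroup_lft hf (S.isP x)
    max := fun x V hV h => by
      refine le_lft hV (S.max x _ (hV.map f) ?_)
      rintro _ ⟨v, hv, rfl⟩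
      exact h v hv
    trans := fun x y z hxy hxz => by
      obtain ⟨u, hu, e⟩ := S.trans x y z hxy hxz
      rw [← map_lft hf hp hs (S.isP x)] at hu
      obtain ⟨u, hu, rfl⟩ := hu
      exact ⟨u, hu, e⟩
    free := fun x y hxy u hu hy => by
      refine eq_one_of_mem_lft hf hp (S.isP x) hu ?_
      exact S.free x y hxy _ ((mem_lft hf (S.isP x)).1 hu).1 hy
    pan := fun x y i hxy u hu hy z hz => S.pan x y i hxy _ ((mem_lft hf (S.isP x)).1 hu).1 hy z hz
    exists_fix := fun V hV => by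
      obtain ⟨x, hx⟩ := S.exists_fix (V.map f) (hV.map f)
      exact ⟨x, fun v hv => hx _ ⟨v, hv, rfl⟩⟩ }

end sys

/-- `Y` acts on a finite thick building of type `M` with a system of Sylow `p`-subgroups; the chambers are permuted
faithfully up to the centre. -/
def HasSysT (p : ℕ) {I : Type*} (M : CoxeterMatrix I) (Y : Type u) [Group Y] : Prop :=
  ∃ (W C : Type u) (_ : Group W) (cs : CoxeterSystem M W) (_ : Finite W) (_ : Fintype C) (Δ : Bldg cs C)
    (_ : MulAction Y C), Δ.Thick ∧ Nonempty (Sys Δ Y p)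

end Cfsg.Agent.H905.DC
end

-- part: H905/DCMain
section
/-!
# The dimension of simple modules in the defining characteristic, the types (helper905)

* `hasSysT_of_splitT`, `HasSysT.lift`;
* `exists_index_le` : `ρ` simple, not trivial on the `p`-elements: `|W : W_J| ≤ dim V` for a proper `J`.
-/

set_option autoImplicit false
set_option linter.unusedSectionVars false

namespace Cfsg.Agent.H905.DC

open Cfsg.Agent.Tits.Core Cfsg.Agent.Tits.Core.Bldg Cfsg.Agent.Tits.Exchange Cfsg.Agent.Tits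
open Cfsg.Agent.FixBN Cfsg.Agent.FixBN.Cox Cfsg.Agent.Omega.CR Cfsg.Agent.Omega.CR.Bl
open Cfsg.Agent.Nodes.RGDLift Cfsg.Agent.Omega.ML.Ex.Typ Cfsg.Agent.Omega.ML.LieRow

universe u v

theorem hasSysT_of_splitT {p : ℕ} (hp : p.Prime) {I : Type*} {M : CoxeterMatrix I} {K : Type u} [Group K] [Finite K]
    [Nonempty I] (h : HasSplitT p M K) : HasSysT p M K := by
  have : Fact p.Prime := ⟨hp⟩
  obtain ⟨P, U, e, hP, hN, cs, hcs⟩ := h
  have hI : Finite I := OfBN.finite_I e
  have S := OfBN.sys e cs hcs hP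
  have hth := Cfsg.Agent.Tits.OfBN.thick P e cs hcs
  exact ⟨_, K ⧸ P.B, inferInstance, cs, inferInstance, Fintype.ofFinite _, _, inferInstance, hth, ⟨S⟩⟩

theorem HasSysT.lift {p : ℕ} [Fact p.Prime] {I : Type*} {M : CoxeterMatrix I} {Y Y' : Type u} [Group Y] [Group Y']
    [Finite Y] (h : HasSysT p M Y') (f : Y →* Y') (hf : f.ker ≤ Subgroup.center Y) (hp : (Nat.card f.ker).Coprime p)
    (hs : Function.Surjective f) : HasSysT p M Y := by
  obtain ⟨W, C, i1, cs, i2, i3, Δ, i4, hth, ⟨S⟩⟩ := h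
  exact ⟨W, C, i1, cs, i2, i3, Δ, MulAction.compHom C f, hth, ⟨sysLift S f hf hp hs⟩⟩

/-- transport of `W_J` -/
theorem index_WJ_eq {I : Type*} {M : CoxeterMatrix I} {W W' : Type*} [Group W] [Group W'] (cs : CoxeterSystem M W)
    (cs' : CoxeterSystem M W') (J : Set I) : (WJ cs J).index = (WJ cs' J).index := by
  let e : W ≃* W' := cs.mulEquiv.trans cs'.mulEquiv.symm
  have he : ∀ i, e (cs.simple i) = cs'.simple i := by
    intro i
    change cs'.mulEquiv.symm (cs.mulEquiv (cs.mulEquiv.symm (M.simple i))) = cs'.mulEquiv.symm (M.simple i)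
    rw [MulEquiv.apply_symm_apply]
  have h1 : (WJ cs J).map e.toMonoidHom = WJ cs' J := by
    unfold WJ
    rw [MonoidHom.map_closure, Set.image_image]
    congr 1
    ext x
    simp only [Set.mem_image]
    constructor
    · rintro ⟨i, hi, rfl⟩
      exact ⟨i, hi, (he i).symm⟩
    · rintro ⟨i, hi, rfl⟩
      exact ⟨i, hi, he i⟩
  rw [← h1]
  exact (Subgroup.index_map_equiv (WJ cs J) e).symm

/-- **A simple module in the defining characteristic has dimension at least `|W : W_J|`, `J` proper.** -/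
theorem exists_index_le {p : ℕ} [Fact p.Prime] {I : Type*} [Finite I] {M : CoxeterMatrix I} {Y : Type u} [Group Y]
    [Finite Y] (h : HasSysT p M Y) {k V : Type*} [Field k] [CharP k p] [AddCommGroup V] [Module k V]
    [FiniteDimensional k V] (ρ : Y →* Module.End k V) (hirr : ∀ L : Submodule k V, Ivt ρ ⊤ L → L = ⊥ ∨ L = ⊤)
    (hnt : ∃ (y : Y) (m : ℕ), y ^ p ^ m = 1 ∧ ρ y ≠ 1) :
    ∃ J : Set I, J ≠ Set.univ ∧ ∀ {W' : Type v} [Group W'] (cs' : CoxeterSystem M W'),
      (WJ cs' J).index ≤ Module.finrank k V := by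
  obtain ⟨W, C, i1, cs, i2, i3, Δ, i4, hth, ⟨S⟩⟩ := h
  obtain ⟨y, m, hy, hne⟩ := hnt
  have hnt : Nontrivial V := by
    by_contra hcon
    rw [not_nontrivial_iff_subsingleton] at hcon
    exact hne (LinearMap.ext fun v => Subsingleton.elim _ _)
  have hV : IsPGroup p (Subgroup.zpowers y) := by
    rintro ⟨_, j, rfl⟩
    refine ⟨m, Subtype.ext ?_⟩
    change (y ^ j) ^ p ^ m = 1
    rw [← zpow_natCast, ← zpow_mul, mul_comm, zpow_mul, zpow_natCast, hy, one_zpow]
  obtain ⟨x, hx⟩ := S.exists_fix _ hV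
  have hyU : y ∈ S.U x := S.max x _ hV hx (Subgroup.mem_zpowers y)
  refine ⟨Jset S ρ, ?_, ?_⟩
  · intro hJ
    apply hne
    obtain ⟨hN, hs⟩ := exists_stb_Vx (S := S) hth hirr x
    have h1 := hN.iSup_opp hth hs hirr x
    have hall : ∀ z, Vx S ρ z = Vx S ρ x := by
      obtain ⟨c, hc1, hc⟩ := exists_apt (Δ := Δ) x
      intro z
      have hW : Δ.δ x z = Δ.δ (c 1) (c (Δ.δ x z)) := by rw [hc, inv_one, one_mul]
      obtain ⟨g, hg1, hg2⟩ := exists_smul_pair (S := S) hth hW
      have h2 : Vx S ρ (c 1) = Vx S ρ (c (Δ.δ x z)) := by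
        rw [Vx_eq_iff (S := S) hth hirr hc, hJ]
        rw [show WJ cs (Set.univ : Set I) = ⊤ from OppRes.WJ_univ]
        trivial
      rw [← hg1, ← hg2, Vx_smul, Vx_smul] at h2
      have h3 : Function.Injective (Submodule.map (ρ g)) :=
        Submodule.map_injective_of_injective (rhoEquiv ρ g).injective
      exact (h3 h2).symm
    have h2 : Vx S ρ x = ⊤ := by
      rw [eq_top_iff, ← h1]
      exact iSup_le fun z => (hall z).le
    refine LinearMap.ext fun v => ?_
    have h3 : v ∈ Vx S ρ x := by rw [h2]; trivial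
    exact h3 y hyU
  · intro W' _ cs'
    rw [← index_WJ_eq cs cs']
    have h1 := index_mul_le (S := S) hth hirr x
    have h2 : 1 ≤ Module.finrank k (Vx S ρ x) := by
      rw [Nat.one_le_iff_ne_zero]
      intro h0
      exact Vx_ne_bot' (S := S) (ρ := ρ) x (Submodule.finrank_eq_zero.1 h0)
    nlinarith

end Cfsg.Agent.H905.DC
end
end

-- part: H905/DCWrap
section
set_option linter.all false
open scoped Cfsg.Agent.FastGrp

/-!
# Root group data of perfect central extensions; linear groups (helper905)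

* `eq_top_of_sup_center` : `Y` perfect, `H Z(Y) = Y` ⟹ `H = Y`;
* `exists_rgd_lift` : the lifted root group datum with its data: `X = lft p f ∘ X'`, `T = f⁻¹ T'`, generated by the
  root groups (`Y` perfect);
* `HasRGDT.lift'`;
* `natRep P` : the natural representation of `P ≤ GL ι k`, `repExt` : over an extension field.
-/

set_option autoImplicit false
set_option linter.unusedSectionVars false

namespace Cfsg.Agent.H905.DC

open CoxeterSystem Cfsg.Agent.ChevalleyStructure.CoxeterGeom Cfsg.Agent.Tits.Roots Cfsg.Agent.Tits.Core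
  Cfsg.Agent.Nodes.Reps Cfsg.Agent.Nodes.BNOf Cfsg.Agent.Nodes.RGDLib
open Cfsg.Agent.Nodes.RGDLift Cfsg.Agent.Omega.ML.Ex.Typ Cfsg.Agent.Omega.CR
open scoped commutatorElement

universe u v

theorem eq_top_of_sup_center {Y : Type*} [Group Y] (hY : commutator Y = ⊤) {H N : Subgroup Y}
    (hN : N ≤ Subgroup.center Y) (h : H ⊔ N = ⊤) : H = ⊤ := by
  rw [eq_top_iff, ← hY, commutator_def, Subgroup.commutator_le]
  have hdec : ∀ g : Y, ∃ a ∈ H, ∃ z ∈ N, a * z = g := by
    intro g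
    have hg : g ∈ H ⊔ N := by rw [h]; trivial
    have hNn : N.Normal := ⟨fun z hz g => by
      rw [(Subgroup.mem_center_iff.1 (hN hz) g), mul_inv_cancel_right]; exact hz⟩
    exact Subgroup.mem_sup_of_normal_right.1 hg
  intro a _ b _
  obtain ⟨a, ha, z, hz, rfl⟩ := hdec a
  obtain ⟨b, hb, w, hw, rfl⟩ := hdec b
  have hz' := Subgroup.mem_center_iff.1 (hN hz)
  have hw' := Subgroup.mem_center_iff.1 (hN hw)
  have e : ⁅a * z, b * w⁆ = ⁅a, b⁆ := by
    rw [commutatorElement_def, commutatorElement_def, mul_inv_rev, mul_inv_rev]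
    have e1 : a * z * (b * w) * (z⁻¹ * a⁻¹) * (w⁻¹ * b⁻¹) = a * (z * (b * w) * z⁻¹) * a⁻¹ * (w⁻¹ * b⁻¹) := by group
    rw [e1, ← hz' (b * w), mul_inv_cancel_right]
    have e2 : a * (b * w) * a⁻¹ * (w⁻¹ * b⁻¹) = a * b * (w * a⁻¹ * w⁻¹) * b⁻¹ := by group
    rw [e2, ← hw' a⁻¹, mul_inv_cancel_right]
  rw [e, commutatorElement_def]
  exact mul_mem (mul_mem (mul_mem ha hb) (inv_mem ha)) (inv_mem hb)

section

variable {I W : Type*} [Fintype I] [DecidableEq I] [Group W] [Finite W] {M : CoxeterMatrix I}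
  {cs : CoxeterSystem M W} {A : I → I → ℤ} {h : IsCartan M A} {p : ℕ} [Fact p.Prime]
  {Y Y' : Type*} [Group Y] [Finite Y] [Group Y'] {T' : Subgroup Y'} {n' : I → Y'} {X' : (I → ℤ) → Subgroup Y'}
  {f : Y →* Y'}

theorem map_G1_lft (hf : f.ker ≤ Subgroup.center Y) (hp : (Nat.card f.ker).Coprime p) (hs : Function.Surjective f)
    (R : RGD cs h p T' n' X') : (G1 cs h (fun x => lft p f (X' x))).map f = G1 cs h X' := by
  unfold G1 RGD.Sup
  rw [Subgroup.map_iSup]
  exact iSup_congr fun z => map_lft hf hp hs (R.pgrp' z.2)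

/-- **The root group datum of a perfect central extension by a `p'`-group**, with its data. -/
theorem exists_rgd_lift (hY : commutator Y = ⊤) (hf : f.ker ≤ Subgroup.center Y) (hp : (Nat.card f.ker).Coprime p)
    (hs : Function.Surjective f) (R : RGD cs h p T' n' X') (hG : G1 cs h X' = ⊤) :
    ∃ n : I → Y, (∀ i, f (n i) = n' i) ∧ RGD cs h p (T'.comap f) n (fun x => lft p f (X' x)) ∧
      G1 cs h (fun x => lft p f (X' x)) = ⊤ := by
  choose n hn using fun i => hs (n' i)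
  refine ⟨n, hn, rgd_lift hf hp hs R hn, ?_⟩
  refine eq_top_of_sup_center hY hf ?_
  have h1 := map_G1_lft hf hp hs R
  rw [hG] at h1
  rw [eq_top_iff]
  intro y _
  have h2 : f y ∈ (G1 cs h (fun x => lft p f (X' x))).map f := by rw [h1]; trivial
  obtain ⟨g, hg, e⟩ := h2
  have h3 : g⁻¹ * y ∈ f.ker := by rw [MonoidHom.mem_ker, map_mul, map_inv, e, inv_mul_cancel]
  have h4 : y = g * (g⁻¹ * y) := by group
  rw [h4]
  exact mul_mem ((le_sup_left : _ ≤ _ ⊔ f.ker) hg) ((le_sup_right : f.ker ≤ G1 cs h (fun x => lft p f (X' x)) ⊔ _) h3)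

end

/-! ### linear groups -/

section linear

variable {ι k : Type*} [Fintype ι] [DecidableEq ι] [Field k]

/-- the natural representation of a linear group -/
def natRep (P : Subgroup (GL ι k)) : P →* Module.End k (ι → k) :=
  (Matrix.toLinAlgEquiv' (R := k) (n := ι)).toAlgHom.toMonoidHom.comp ((Units.coeHom _).comp P.subtype)

theorem natRep_apply (P : Subgroup (GL ι k)) (g : P) (v : ι → k) :
    natRep P g v = Matrix.mulVec ((g : GL ι k) : Matrix ι ι k) v := rfl

end linear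

end Cfsg.Agent.H905.DC
end

-- part: H50/HerPan
section
set_option linter.all false
open scoped Cfsg.Agent.FastGrp

/-!
# Root group data with the orders of the simple root groups (helper50, for S3695)

`HasPan p M q G` : a root group datum of characteristic `p` and type `M` which generates `G`, with commutative torus,
`n i ∈ ⟨X_i, X_{-i}⟩` and `|X_i| = q i` for the simple roots `i`.
-/

set_option autoImplicit false

namespace Cfsg.Agent.H50.Her

open CoxeterSystem Cfsg.Agent.ChevalleyStructure.CoxeterGeom Cfsg.Agent.Tits.Roots Cfsg.Agent.Tits.Core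
  Cfsg.Agent.Nodes.Comb Cfsg.Agent.Nodes.Reps Cfsg.Agent.Nodes.BNOf Cfsg.Agent.Nodes.RGDLib

/-- `G` is generated by a root group datum of characteristic `p` and type `M` with commutative torus,
`n i ∈ ⟨X_i, X_{-i}⟩` and `|X_i| = q i`. -/
def HasPan (p : ℕ) {l : ℕ} (M : CoxeterMatrix (Fin l)) (q : Fin l → ℕ) (G : Type*) [Group G] : Prop :=
  ∃ (A : Fin l → Fin l → ℤ) (h : IsCartan M A) (T : Subgroup G) (n : Fin l → G) (X : (Fin l → ℤ) → Subgroup G),
    Finite M.Group ∧ RGD M.toCoxeterSystem h p T n X ∧ G1 M.toCoxeterSystem h X = ⊤ ∧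
      (∀ s ∈ T, ∀ t ∈ T, s * t = t * s) ∧ (∀ i, n i ∈ X (sr i) ⊔ X (-sr i)) ∧ ∀ i, Nat.card (X (sr i)) = q i

variable {p l : ℕ} {M : CoxeterMatrix (Fin l)} {q : Fin l → ℕ} {G H : Type*} [Group G] [Group H]

theorem HasPan.hasRGDT (h : HasPan p M q G) : Cfsg.Agent.Omega.ML.Ex.Typ.HasRGDT p M G := by
  obtain ⟨A, h, T, n, X, hW, R, hX, -⟩ := h
  exact ⟨A, h, T, n, X, hW, R, hX⟩

theorem HasPan.of_equiv (e : G ≃* H) (hG : HasPan p M q G) : HasPan p M q H := by
  obtain ⟨A, h, T, n, X, hW, R, hX, hT, hn, hr⟩ := hG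
  refine ⟨A, h, T.map e.toMonoidHom, fun i => e (n i), fun x => (X x).map e.toMonoidHom, hW,
    rgd_map_of_injective R e.toMonoidHom e.injective, ?_, ?_, ?_, ?_⟩
  · have h1 : (G1 M.toCoxeterSystem h X).map e.toMonoidHom =
        G1 M.toCoxeterSystem h (fun x => (X x).map e.toMonoidHom) := by
      unfold G1 RGD.Sup
      rw [Subgroup.map_iSup]
    rw [← h1, hX, Subgroup.map_top_of_surjective _ e.surjective]
  · rintro _ ⟨s, hs, rfl⟩ _ ⟨t, ht, rfl⟩
    rw [← map_mul, ← map_mul, hT s hs t ht]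
  · intro i
    change e.toMonoidHom (n i) ∈ _
    rw [← Subgroup.map_sup]
    exact Subgroup.mem_map_of_mem _ (hn i)
  · intro i
    rw [← hr i]
    exact (Nat.card_congr ((X (sr i)).equivMapOfInjective e.toMonoidHom e.injective).toEquiv).symm

end Cfsg.Agent.H50.Her
end

-- part: H742/PanC
section
set_option linter.all false
open scoped Cfsg.Agent.FastGrp

/-!
# Root group data with the orders of the simple root groups, type `B_n` (helper742, for helper50 and helper353)

For a model `M : Model Fr K` of a Witt frame of index `n`: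

* `card_X_of_lt` : `|X (α_i)| = |F|` for `i + 1 < n`;
* `card_X_last` : `|X (α_{n-1})| = |Adm|`;
* `nw_mem` : `n_i ∈ ⟨X_{α_i}, X_{-α_i}⟩`;
* **`pan_C`** : `HasPan p (CoxeterMatrix.B n) (fun i => if i + 1 < n then |F| else |Adm|) K`, if the torus is abelian
  on the anisotropic part; `pan_C'` : the same with `|Adm| = r`.
-/

set_option autoImplicit false
set_option linter.unusedSectionVars false

namespace Cfsg.Agent.H742

open Cfsg
open CoxeterSystem Cfsg.Agent.ChevalleyStructure.CoxeterGeom Cfsg.Agent.Tits.Roots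
  Cfsg.Agent.Nodes.Comb Cfsg.Agent.Nodes.Reps Cfsg.Agent.Nodes.BNOf
  Cfsg.Agent.Nodes.RGDLib Cfsg.Agent.Nodes.TypeC
open Cfsg.Agent.Nodes Cfsg.Agent.Nodes.WittAll Cfsg.Agent.Nodes.WittU Cfsg.Agent.Nodes.WittInst
  Cfsg.Agent.Nodes.WittRoot
  Cfsg.Agent.TitsThree Cfsg.Agent.TitsThree.Siegel Cfsg.Agent.TitsThree.SiegelGen
  Cfsg.Agent.TitsThree.WittFrame Cfsg.Agent.TitsThree.WBridge Cfsg.Agent.TitsThree.WittWeyl
  Cfsg.Agent.TitsThree.FrameCN Cfsg.Agent.TitsThree.LineBorel
open Cfsg.Agent.Nodes.WittRGD (Tor mem_Tor nn nn_mem_sup rg_sr rg_neg_sr)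
open Cfsg.Agent.H50.Her Cfsg.Agent.Omega.ML.Ex.Lie2.SemiDat

section general

variable {F : Type*} [Field F] {V : Type*} [AddCommGroup V] [Module F V] {H : HForm F V} {n : ℕ}
  {Fr : Frame H (Fin n)} {K : Type*} [Group K] (M : Model Fr K)

/-- `φ` is injective on the long root groups -/
theorem eq_zero_of_X {x y : Fin n × Bool} (h : x.1 ≠ y.1) {t : F} (ht : M.φ ⟨Fr.X x y t, M.hX x y t⟩ = 1) : t = 0 := by
  obtain ⟨a, ha⟩ := M.ker (Fr.b (neg y)) _ ht
  have h1 : Fr.b (neg y) + t • Fr.b x = a • Fr.b (neg y) := by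
    rw [← WittWeyl.X_apply_neg Fr h]; exact ha
  have h3 := congrArg (fun v => H.h v (Fr.b (neg x))) h1
  have h4 : H.h (Fr.b (neg y)) (Fr.b (neg x)) = 0 := Fr.hb_of_ne (x := neg y) (y := neg x) h.symm
  simp only [H.add_left, H.smul_left, h4, Fr.hb_self_neg, mul_zero, zero_add] at h3
  exact (mul_eq_zero.1 h3).resolve_right (Fr.η_ne _)

/-- **The orders of the simple root groups**, all nodes but the last -/
theorem card_X_of_lt {i : Fin n} (hi : (i : ℕ) + 1 < n) : Nat.card (WittModel.X M (sr i)) = Nat.card F := by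
  have hnx : nx i = (⟨(i : ℕ) + 1, hi⟩, false) := by
    unfold nx; rw [dif_pos hi]
  have hne : ((i, true) : Fin n × Bool).1 ≠ (nx i).1 := by
    rw [hnx]
    intro h
    have := congrArg Fin.val h
    simp at this
  symm
  refine Nat.card_congr (Equiv.ofBijective
    (fun t : F => (⟨M.φ ⟨Fr.X (i, true) (nx i) t, M.hX _ _ _⟩, WittModel.mem_X_of M _ (by
      rw [rg_sr, PG_ne Fr hne]; exact ⟨t, rfl⟩)⟩ : WittModel.X M (sr i))) ⟨?_, ?_⟩)
  · intro s t hst
    have h1 : M.φ ⟨Fr.X (i, true) (nx i) s, M.hX _ _ _⟩ = M.φ ⟨Fr.X (i, true) (nx i) t, M.hX _ _ _⟩ :=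
      congrArg Subtype.val hst
    have h2 : M.φ ⟨Fr.X (i, true) (nx i) (s - t), M.hX _ _ _⟩ = 1 := by
      rw [← mul_inv_eq_one, ← map_inv, ← map_mul] at h1
      rw [← h1]
      congr 1
      apply Subtype.ext
      change Fr.X (i, true) (nx i) (s - t) = Fr.X (i, true) (nx i) s * (Fr.X (i, true) (nx i) t)⁻¹
      rw [← Fr.X_neg, ← Fr.X_add, sub_eq_add_neg]
    exact sub_eq_zero.1 (eq_zero_of_X M hne h2)
  · rintro ⟨k, hk⟩
    obtain ⟨g, hg, h1, h2⟩ := (WittModel.mem_X M).1 hk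
    rw [rg_sr, PG_ne Fr hne] at h1
    obtain ⟨t, rfl⟩ := h1
    exact ⟨t, Subtype.ext h2.symm⟩

/-- **The order of the last simple root group** -/
theorem card_X_last {i : Fin n} (hi : ¬ (i : ℕ) + 1 < n) : Nat.card (WittModel.X M (sr i)) = Nat.card Fr.Adm := by
  have hnx : nx i = (i, true) := by
    unfold nx; rw [dif_neg hi]
  symm
  refine Nat.card_congr (Equiv.ofBijective
    (fun a : Fr.Adm => (⟨M.φ ⟨Fr.Z (i, true) a, M.hZ _ _⟩, WittModel.mem_X_of M _ (by
      rw [rg_sr, hnx, PG_self]; exact ⟨a, rfl⟩)⟩ : WittModel.X M (sr i))) ⟨?_, ?_⟩)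
  · intro s t hst
    have h1 : M.φ ⟨Fr.Z (i, true) s, M.hZ _ _⟩ = M.φ ⟨Fr.Z (i, true) t, M.hZ _ _⟩ := congrArg Subtype.val hst
    have h2 : M.φ ⟨Fr.Z (i, true) (s * t⁻¹), M.hZ _ _⟩ = 1 := by
      rw [← mul_inv_eq_one, ← map_inv, ← map_mul] at h1
      rw [← h1]
      congr 1
      apply Subtype.ext
      change Fr.Z (i, true) (s * t⁻¹) = Fr.Z (i, true) s * (Fr.Z (i, true) t)⁻¹
      rw [← Fr.Z_inv, ← Fr.Z_mul]
    exact mul_inv_eq_one.1 (eq_one_of_Z M h2)
  · rintro ⟨k, hk⟩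
    obtain ⟨g, hg, h1, h2⟩ := (WittModel.mem_X M).1 hk
    rw [rg_sr, hnx, PG_self] at h1
    obtain ⟨a, rfl⟩ := h1
    exact ⟨a, Subtype.ext h2.symm⟩

/-- the Weyl elements lie in the rank one groups -/
theorem nw_mem {p : ℕ} (hA : AmbT Fr p M.I) (p0 : Fr.Adm) (i : Fin n) :
    M.φ ⟨nn Fr p0 i, WittAll.nn_mem hA p0 i⟩ ∈ WittModel.X M (sr i) ⊔ WittModel.X M (-sr i) := by
  unfold WittModel.X
  rw [← Subgroup.map_sup, ← Subgroup.subgroupOf_sup (hA.rg_le _) (hA.rg_le _)]
  exact Subgroup.mem_map_of_mem _ (Subgroup.mem_subgroupOf.2 (nn_mem_sup p0 i))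

/-- **The root group datum of a model, with the orders of the simple root groups.** -/
theorem pan_C {p : ℕ} (hA : AmbT Fr p M.I) [Finite V] [Fact p.Prime] [CharP F p]
    {p0 : Fr.Adm} (hp0 : p0.c ≠ 0) (hn : 0 < n)
    (hT : ∀ s ∈ Tor Fr M.I, ∀ t ∈ Tor Fr M.I, ∀ w ∈ Fr.V0, s (t w) = t (s w)) :
    HasPan p (CoxeterMatrix.B n) (fun i => if (i : ℕ) + 1 < n then Nat.card F else Nat.card Fr.Adm) K :=
  ⟨TypeC.A n, TypeC.isCartan n, _, _, _, TypeC.finite_W (CoxeterMatrix.B n).toCoxeterSystem,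
    rgdC_model M hA hp0 _, WittModel.G1_eq_top _ hn _, by
      rintro _ ⟨s, hs, rfl⟩ _ ⟨t, ht, rfl⟩
      rw [← map_mul, ← map_mul]
      congr 1
      exact Subtype.ext (H716.RGDAb.tor_comm_of hA.V0 (Subgroup.mem_subgroupOf.1 hs) (Subgroup.mem_subgroupOf.1 ht)
        (hT _ (Subgroup.mem_subgroupOf.1 hs) _ (Subgroup.mem_subgroupOf.1 ht))),
    nw_mem M hA p0, fun i => by
      by_cases hi : (i : ℕ) + 1 < n
      · exact (card_X_of_lt M hi).trans (if_pos hi).symm
      · exact (card_X_last M hi).trans (if_neg hi).symm⟩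

/-- the same, with given orders `q` and `r` -/
theorem pan_C' {p : ℕ} (hA : AmbT Fr p M.I) [Finite V] [Fact p.Prime] [CharP F p]
    {p0 : Fr.Adm} (hp0 : p0.c ≠ 0) (hn : 0 < n)
    (hT : ∀ s ∈ Tor Fr M.I, ∀ t ∈ Tor Fr M.I, ∀ w ∈ Fr.V0, s (t w) = t (s w)) {q r : ℕ} (hq : Nat.card F = q)
    (hr : Nat.card Fr.Adm = r) :
    HasPan p (CoxeterMatrix.B n) (fun i => if (i : ℕ) + 1 < n then q else r) K := by
  subst hq hr
  exact pan_C M hA hp0 hn hT

/-- the number of admissible pairs -/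
theorem card_adm (Fr : Frame H (Fin n)) [Finite V] [Finite F] {a b : ℕ} (hV : Nat.card Fr.V0 = a)
    (hc : ∀ w : Fr.V0, Nat.card {c : F // Fr.ok w c} = b) : Nat.card Fr.Adm = a * b := by
  classical
  have : Fintype Fr.V0 := Fintype.ofFinite _
  let g : Fr.Adm ≃ Σ w : Fr.V0, {c : F // Fr.ok w c} :=
    { toFun := fun x => ⟨⟨x.w, Fr.ok_mem x.ok⟩, ⟨x.c, x.ok⟩⟩
      invFun := fun z => ⟨z.1, z.2.1, z.2.2⟩
      left_inv := fun x => rfl
      right_inv := fun z => rfl }
  rw [Nat.card_congr g, Nat.card_sigma, Finset.sum_congr rfl fun w _ => hc w, Finset.sum_const, Finset.card_univ,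
    ← Nat.card_eq_fintype_card, smul_eq_mul, hV]

end general

end Cfsg.Agent.H742
end

-- part: H742/PanU
section
set_option linter.all false
open scoped Cfsg.Agent.FastGrp

/-!
# Root group data with the orders of the simple root groups: symplectic and unitary groups (helper742, for helper50)

* `pan_psp` : `PSp_{2m}(F)`, orders `|F|`;
* `pan_psu_even` : `PSU_{2m}(q)`, orders `q ^ 2` and (last node) `q`;
* `pan_psu_odd` : `PSU_{2m+1}(q)`, orders `q ^ 2` and (last node) `q ^ 3`.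
-/

set_option autoImplicit false
set_option linter.unusedSectionVars false

namespace Cfsg.Agent.H742

open Cfsg
open CoxeterSystem Cfsg.Agent.ChevalleyStructure.CoxeterGeom Cfsg.Agent.Tits.Roots
  Cfsg.Agent.Nodes.Comb Cfsg.Agent.Nodes.Reps Cfsg.Agent.Nodes.BNOf
  Cfsg.Agent.Nodes.RGDLib Cfsg.Agent.Nodes.TypeC
open Cfsg.Agent.Nodes Cfsg.Agent.Nodes.WittAll Cfsg.Agent.Nodes.WittU Cfsg.Agent.Nodes.WittInst
  Cfsg.Agent.Nodes.WittRoot
  Cfsg.Agent.TitsThree Cfsg.Agent.TitsThree.Siegel Cfsg.Agent.TitsThree.SiegelGen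
  Cfsg.Agent.TitsThree.WittFrame Cfsg.Agent.TitsThree.WBridge Cfsg.Agent.TitsThree.WittWeyl
  Cfsg.Agent.TitsThree.FrameCN
open Cfsg.Agent.H50.Her Cfsg.Agent.H716.RGDAb Cfsg.Agent.Omega.ML.Ex.Typ

/-! ### Symplectic groups -/

/-- **`PSp_{2m}(F)`** -/
theorem pan_psp {F : Type*} [Field F] [Finite F] {m : ℕ} (hm : 1 ≤ m) {p : ℕ} [Fact p.Prime] [CharP F p] :
    HasPan p (CoxeterMatrix.B m) (fun _ => Nat.card F) (PSp m F) := by
  have hA := AmbT.of_amb (amb_Sp (F := F) (m := m)) p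
  have h := pan_C' (KInstSp.model m F) hA (p0 := SpIdent.adm 1) one_ne_zero hm
    (fun s hs t ht => comm_V0_of_line hA ⟨0, fun w hw => ⟨0, by
      rw [smul_zero]
      exact (Submodule.mem_bot F).1 hw⟩⟩ hs ht) (q := Nat.card F) (r := Nat.card F) rfl (by
        refine Nat.card_congr ⟨fun a => a.c, fun c => SpIdent.adm c, fun a => (SpIdent.eq_adm a).symm, fun c => rfl⟩)
  have e : (fun i : Fin m => if (i : ℕ) + 1 < m then Nat.card F else Nat.card F) = fun _ => Nat.card F := by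
    funext i
    exact ite_self _
  rwa [e] at h

/-! ### Unitary groups -/

section Unitary

open Cfsg.Agent.LieClassical.HermBasic Cfsg.Agent.TitsThree.KSideU

variable {F : Type*} [Field F] [Fintype F] {q N : ℕ} (hF : Fintype.card F = q ^ 2)

include hF

/-- the elements of trace zero -/
theorem card_trace_zero : Nat.card {c : F // c + c ^ q = 0} = q := by
  obtain ⟨x, hx0, hx⟩ := exists_trace_zero_ne hF
  have hxq : x ^ q = -x := by
    rw [eq_neg_iff_add_eq_zero, add_comm]; exact hx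
  refine Eq.trans (Nat.card_congr (β := {x : F // x ^ q = x})
    ⟨fun c => ⟨c.1 * x⁻¹, ?_⟩, fun c => ⟨c.1 * x, ?_⟩, fun c => Subtype.ext ?_, fun c => Subtype.ext ?_⟩) (card_fixed hF)
  · have h1 : c.1 ^ q = -c.1 := by
      rw [eq_neg_iff_add_eq_zero, add_comm]; exact c.2
    rw [mul_pow, inv_pow, h1, hxq, inv_neg, neg_mul_neg]
  · rw [mul_pow, c.2, hxq, mul_neg, add_neg_cancel]
  · exact inv_mul_cancel_right₀ hx0 _
  · exact mul_inv_cancel_right₀ hx0 _

/-- the equation `c + c ^ q = b` has exactly `q` solutions -/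
theorem card_trace_eq {b : F} (hb : b ^ q = b) : Nat.card {c : F // c + c ^ q = b} = q := by
  obtain ⟨x, hx⟩ := exists_trace_eq hF hb
  refine Eq.trans (Nat.card_congr (β := {x : F // x + x ^ q = 0})
    ⟨fun c => ⟨c.1 - x, ?_⟩, fun c => ⟨c.1 + x, ?_⟩, fun c => Subtype.ext ?_, fun c => Subtype.ext ?_⟩) (card_trace_zero hF)
  · rw [sub_pow_q hF]
    linear_combination c.2 - hx
  · rw [add_pow_q hF]
    linear_combination c.2 + hx
  · exact sub_add_cancel _ _
  · exact add_sub_cancel_right _ _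

theorem card_ok {m : ℕ} (W : WFrame (PU hF N) m) (w : (toFrame W).V0) :
    Nat.card {c : F // (toFrame W).ok w c} = q := by
  refine Eq.trans (Nat.card_congr (β := {c : F // c + c ^ q = -hermForm N F q w w})
    ⟨fun c => ⟨c.1, c.2.2⟩, fun c => ⟨c.1, w.2, c.2⟩, fun c => rfl, fun c => rfl⟩)
    (card_trace_eq hF (by rw [neg_pow_q hF, herm_self_pow hF]))

theorem comm_V0_U {m : ℕ} (hm : N ≤ 2 * m + 1) (W : WFrame (PU hF N) m) {p : ℕ}
    {G0 : Subgroup ((Fin N → F) ≃ₗ[F] (Fin N → F))} (hA : AmbT (toFrame W) p G0)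
    {s t : (Fin N → F) ≃ₗ[F] (Fin N → F)} (hs : s ∈ WittRGD.Tor (toFrame W) G0) (ht : t ∈ WittRGD.Tor (toFrame W) G0) :
    ∀ w ∈ (toFrame W).V0, s (t w) = t (s w) := by
  have hdim := finrank_V0 (Fr := toFrame W)
  rw [Module.finrank_fintype_fun_eq_card, Fintype.card_fin] at hdim
  refine comm_V0_of_line hA ?_ hs ht
  have h1 : Module.finrank F ↥(toFrame W).V0 ≤ 1 := by omega
  obtain ⟨v, hv⟩ := finrank_le_one_iff.1 h1
  refine ⟨v.1, fun w hw => ?_⟩
  obtain ⟨c, hc⟩ := hv ⟨w, hw⟩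
  exact ⟨c, (congrArg Subtype.val hc).symm⟩

/-- **`PSU_{2m}(q)`** -/
theorem pan_psu_even {m : ℕ} (hm : 2 ≤ m) {p : ℕ} [Fact p.Prime] [CharP F p] :
    HasPan p (CoxeterMatrix.B m) (fun i => if (i : ℕ) + 1 < m then q ^ 2 else q) (PSU (2 * m) F q) := by
  obtain ⟨W, hW⟩ := exists_wframe_even hF (rfl : 2 * m = 2 * m)
  obtain ⟨p0, hp0, -⟩ := exists_adm hF W
  have hA := AmbT.of_amb (amb_U hF W) p
  refine pan_C' (KInstU.model hF (by omega) W) hA hp0 (by omega)
    (fun s hs t ht => comm_V0_U hF (by omega) W hA hs ht) (by rw [Nat.card_eq_fintype_card, hF]) ?_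
  have h1 : Nat.card (toFrame W).V0 = 1 := by
    change Nat.card W.V0 = 1
    rw [hW]
    exact Nat.card_unique
  rw [card_adm (toFrame W) h1 (card_ok hF W), one_mul]

/-- **`PSU_{2m+1}(q)`** -/
theorem pan_psu_odd {m : ℕ} (hm : 1 ≤ m) {p : ℕ} [Fact p.Prime] [CharP F p] :
    HasPan p (CoxeterMatrix.B m) (fun i => if (i : ℕ) + 1 < m then q ^ 2 else q ^ 3) (PSU (2 * m + 1) F q) := by
  obtain ⟨W, d, hd, hW⟩ := exists_wframe_odd hF (rfl : 2 * m + 1 = 2 * m + 1)
  obtain ⟨p0, hp0, -⟩ := exists_adm hF W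
  have hA := AmbT.of_amb (amb_U hF W) p
  refine pan_C' (KInstU.model hF (by omega) W) hA hp0 (by omega)
    (fun s hs t ht => comm_V0_U hF le_rfl W hA hs ht) (by rw [Nat.card_eq_fintype_card, hF]) ?_
  have hd0 : d ≠ 0 := by
    rintro rfl
    rw [herm_zero_left] at hd
    exact zero_ne_one hd
  have h1 : Nat.card (toFrame W).V0 = q ^ 2 := by
    change Nat.card W.V0 = q ^ 2
    rw [hW, ← hF, ← Nat.card_eq_fintype_card]
    exact (Nat.card_congr (LinearEquiv.toSpanNonzeroSingleton F (Fin (2 * m + 1) → F) d hd0).toEquiv).symm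
  rw [card_adm (toFrame W) h1 (card_ok hF W), ← pow_succ]

end Unitary

end Cfsg.Agent.H742
end

-- part: H353/PanC
section
set_option linter.all false
open scoped Cfsg.Agent.FastGrp

/-!
# Orders of the simple root groups of a Witt frame (helper353, for helper50)

* `eq_zero_of_X` : `φ (X a b t) = 1` implies `t = 0`;
* `card_X_sr`, `card_X_last` : `|X (α_i)| = |F|` for `i + 1 < n`, `|X (α_i)| = |Adm|` for the last node;
* `pan_C` : `HasPan` for a model with commuting action of the torus on `V0`.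
-/

set_option autoImplicit false
set_option linter.unusedSectionVars false

namespace Cfsg.Agent.H353.PanC

open Cfsg
open CoxeterSystem Cfsg.Agent.ChevalleyStructure.CoxeterGeom Cfsg.Agent.Tits.Roots
  Cfsg.Agent.Nodes.Comb Cfsg.Agent.Nodes.Reps Cfsg.Agent.Nodes.BNOf
  Cfsg.Agent.Nodes.RGDLib Cfsg.Agent.Nodes.TypeC
open Cfsg.Agent.Nodes Cfsg.Agent.Nodes.WittAll Cfsg.Agent.Nodes.WittU Cfsg.Agent.Nodes.WittInst
  Cfsg.Agent.Nodes.WittRoot
open Cfsg.Agent.Nodes.WittRGD (Tor mem_Tor not_prop b_ne_zero eq_or_ng nn mono_nX mono_nZ mono_nn nn_mem_sup rg_sr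
  rg_neg_sr isPGroup_PG)
open Cfsg.Agent.TitsThree Cfsg.Agent.TitsThree.Siegel Cfsg.Agent.TitsThree.SiegelGen
  Cfsg.Agent.TitsThree.WittFrame Cfsg.Agent.TitsThree.WBridge Cfsg.Agent.TitsThree.WittWeyl
  Cfsg.Agent.TitsThree.FrameCN

variable {F : Type*} [Field F] {V : Type*} [AddCommGroup V] [Module F V] {H : HForm F V} {n : ℕ}
  {Fr : Frame H (Fin n)} {K : Type*} [Group K] (M : Model Fr K)

/-- `φ` is injective on the root groups `X a b` -/
theorem eq_zero_of_X {x y : Fin n × Bool} (h : x.1 ≠ y.1) {t : F} (ht : M.φ ⟨Fr.X x y t, M.hX x y t⟩ = 1) : t = 0 := by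
  obtain ⟨a, ha⟩ := M.ker (Fr.b (neg y)) _ ht
  have h1 : Fr.b (neg y) + t • Fr.b x = a • Fr.b (neg y) := by
    rw [← LineBorel.X_apply_neg Fr h]; exact ha
  have h3 := congrArg (fun v => H.h v (Fr.b (neg x))) h1
  have h4 : H.h (Fr.b (neg y)) (Fr.b (neg x)) = 0 := Fr.hb_of_ne (Ne.symm h)
  simp only [H.add_left, H.smul_left, h4, mul_zero, zero_add] at h3
  rcases mul_eq_zero.1 h3 with h5 | h5
  · exact h5
  · exact absurd h5 (by
      rw [Fr.hb_self_neg]
      exact Fr.η_ne _)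

theorem inj_X {x y : Fin n × Bool} (h : x.1 ≠ y.1) :
    Function.Injective fun t : F => M.φ ⟨Fr.X x y t, M.hX x y t⟩ := by
  intro s t hst
  have h1 : M.φ ⟨Fr.X x y (s - t), M.hX x y (s - t)⟩ = 1 := by
    have h2 : (⟨Fr.X x y (s - t), M.hX x y (s - t)⟩ : M.I) =
        ⟨Fr.X x y s, M.hX x y s⟩ * (⟨Fr.X x y t, M.hX x y t⟩)⁻¹ := by
      apply Subtype.ext
      show Fr.X x y (s - t) = Fr.X x y s * (Fr.X x y t)⁻¹
      rw [sub_eq_add_neg, Fr.X_add, Fr.X_neg]
    rw [h2, map_mul, map_inv]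
    have h3 : M.φ ⟨Fr.X x y s, M.hX x y s⟩ = M.φ ⟨Fr.X x y t, M.hX x y t⟩ := hst
    rw [h3, mul_inv_cancel]
  exact sub_eq_zero.1 (eq_zero_of_X M h h1)

theorem inj_Z {x : Fin n × Bool} :
    Function.Injective fun p : Fr.Adm => M.φ ⟨Fr.Z x p, M.hZ x p⟩ := by
  intro s t hst
  have h1 : M.φ ⟨Fr.Z x (s * t⁻¹), M.hZ x (s * t⁻¹)⟩ = 1 := by
    have h2 : (⟨Fr.Z x (s * t⁻¹), M.hZ x (s * t⁻¹)⟩ : M.I) =
        ⟨Fr.Z x s, M.hZ x s⟩ * (⟨Fr.Z x t, M.hZ x t⟩)⁻¹ := by
      apply Subtype.ext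
      show Fr.Z x (s * t⁻¹) = Fr.Z x s * (Fr.Z x t)⁻¹
      rw [Fr.Z_mul, Fr.Z_inv]
    rw [h2, map_mul, map_inv]
    have h3 : M.φ ⟨Fr.Z x s, M.hZ x s⟩ = M.φ ⟨Fr.Z x t, M.hZ x t⟩ := hst
    rw [h3, mul_inv_cancel]
  exact mul_inv_eq_one.1 (Cfsg.Agent.Omega.ML.Ex.Lie2.SemiDat.eq_one_of_Z M h1)

/-- the root groups of the long nodes -/
theorem card_X_sr {i : Fin n} (hi : (i : ℕ) + 1 < n) : Nat.card (WittModel.X M (sr i)) = Nat.card F := by
  have hnx : nx i = (⟨i + 1, hi⟩, false) := by unfold nx; rw [dif_pos hi]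
  have hne : ((i, true) : Fin n × Bool).1 ≠ (nx i).1 := by rw [hnx]; simp [Fin.ext_iff]
  have hrg : WittRoot.rg Fr (sr i) = XG Fr (i, true) (nx i) := by rw [rg_sr, PG_ne Fr hne]
  symm
  refine Nat.card_congr (Equiv.ofBijective (fun t : F =>
    (⟨M.φ ⟨Fr.X (i, true) (nx i) t, M.hX _ _ t⟩, WittModel.mem_X_of M _ (by rw [hrg]; exact ⟨t, rfl⟩)⟩ :
      WittModel.X M (sr i))) ⟨?_, ?_⟩)
  · intro s t hst
    exact inj_X M hne (congrArg Subtype.val hst)
  · rintro ⟨k, hk⟩
    obtain ⟨g, hg, hgr, rfl⟩ := (WittModel.mem_X M).1 hk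
    rw [hrg] at hgr
    obtain ⟨t, rfl⟩ := hgr
    exact ⟨t, rfl⟩

/-- the root group of the last node -/
theorem card_X_last {i : Fin n} (hi : ¬ (i : ℕ) + 1 < n) : Nat.card (WittModel.X M (sr i)) = Nat.card Fr.Adm := by
  have hnx : nx i = (i, true) := by unfold nx; rw [dif_neg hi]
  have hrg : WittRoot.rg Fr (sr i) = ZG Fr (i, true) := by rw [rg_sr, hnx, PG_self]
  symm
  refine Nat.card_congr (Equiv.ofBijective (fun t : Fr.Adm =>
    (⟨M.φ ⟨Fr.Z (i, true) t, M.hZ _ t⟩, WittModel.mem_X_of M _ (by rw [hrg]; exact ⟨t, rfl⟩)⟩ :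
      WittModel.X M (sr i))) ⟨?_, ?_⟩)
  · intro s t hst
    exact inj_Z M (congrArg Subtype.val hst)
  · rintro ⟨k, hk⟩
    obtain ⟨g, hg, hgr, rfl⟩ := (WittModel.mem_X M).1 hk
    rw [hrg] at hgr
    obtain ⟨t, rfl⟩ := hgr
    exact ⟨t, rfl⟩

theorem nn_mem_sup_X {p : ℕ} (hA : AmbT Fr p M.I) (p0 : Fr.Adm) (i : Fin n) :
    M.φ ⟨nn Fr p0 i, WittAll.nn_mem hA p0 i⟩ ∈ WittModel.X M (sr i) ⊔ WittModel.X M (-sr i) := by
  unfold WittModel.X
  rw [← Subgroup.map_sup, ← Subgroup.subgroupOf_sup (hA.rg_le _) (hA.rg_le _)]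
  exact Subgroup.mem_map_of_mem _ (Subgroup.mem_subgroupOf.2 (nn_mem_sup p0 i))

/-- **root group data of type `B_n` of a Witt frame, with the orders of the simple root groups** -/
theorem pan_C {p : ℕ} (hA : AmbT Fr p M.I) [Finite V] [Fact p.Prime] [CharP F p]
    {p0 : Fr.Adm} (hp0 : p0.c ≠ 0) (hn : 0 < n)
    (hT : ∀ s ∈ Tor Fr M.I, ∀ t ∈ Tor Fr M.I, ∀ w ∈ Fr.V0, s (t w) = t (s w)) {q : Fin n → ℕ}
    (hq : ∀ i : Fin n, (i : ℕ) + 1 < n → q i = Nat.card F)
    (hq' : ∀ i : Fin n, ¬ (i : ℕ) + 1 < n → q i = Nat.card Fr.Adm) :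
    Cfsg.Agent.H50.Her.HasPan p (CoxeterMatrix.B n) q K := by
  refine ⟨TypeC.A n, TypeC.isCartan n, _, _, _, TypeC.finite_W (CoxeterMatrix.B n).toCoxeterSystem,
    rgdC_model M hA hp0 _, WittModel.G1_eq_top _ hn _, ?_, ?_, ?_⟩
  · rintro _ ⟨s, hs, rfl⟩ _ ⟨t, ht, rfl⟩
    rw [← map_mul, ← map_mul]
    congr 1
    exact Subtype.ext (Cfsg.Agent.H716.RGDAb.tor_comm_of hA.V0 (Subgroup.mem_subgroupOf.1 hs)
      (Subgroup.mem_subgroupOf.1 ht) (hT _ (Subgroup.mem_subgroupOf.1 hs) _ (Subgroup.mem_subgroupOf.1 ht)))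
  · exact fun i => nn_mem_sup_X M hA p0 i
  · intro i
    by_cases hi : (i : ℕ) + 1 < n
    · rw [hq i hi, card_X_sr M hi]
    · rw [hq' i hi, card_X_last M hi]

end Cfsg.Agent.H353.PanC
end

-- part: H353/PanO
section
prune_inst 0x20000400782200000018001032001c669200009200480000a860010204c9c860a040a020ba300112808008446038004002080100400000000a000000011c0080100000021100a004000000800000000000000000000000000000000000000000000000000
set_option linter.all false
open scoped Cfsg.Agent.FastGrp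

/-!
# Root group data of the orthogonal groups with the orders of the simple root groups (helper353, for helper50)

* `pan_po_odd` : `PΩ_{2m+1}(F)`, type `B_m`, all root groups of order `|F|`;
* `pan_po_minus` : `PΩ⁻_{2m+2}(F)`, type `B_m`, the last root group has order `|F| ^ 2`.
-/

set_option autoImplicit false
set_option linter.unusedSectionVars false

namespace Cfsg.Agent.H353.PanO

open Cfsg
open CoxeterSystem Cfsg.Agent.ChevalleyStructure.CoxeterGeom Cfsg.Agent.Tits.Roots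
  Cfsg.Agent.Nodes.Comb Cfsg.Agent.Nodes.Reps Cfsg.Agent.Nodes.BNOf
  Cfsg.Agent.Nodes.RGDLib Cfsg.Agent.Nodes.TypeC
open Cfsg.Agent.Nodes Cfsg.Agent.Nodes.WittAll Cfsg.Agent.Nodes.WittU Cfsg.Agent.Nodes.WittInst
open Cfsg.Agent.Nodes.WittRGD (Tor)
open Cfsg.Agent.TitsThree Cfsg.Agent.TitsThree.Siegel Cfsg.Agent.TitsThree.SiegelGen
  Cfsg.Agent.TitsThree.WittFrame Cfsg.Agent.TitsThree.WBridge Cfsg.Agent.TitsThree.WittWeyl
  Cfsg.Agent.TitsThree.FrameCN
open QuadraticMap
open Cfsg.Agent.LieClassical Cfsg.Agent.LieClassical.OrthCore Cfsg.Agent.LieClassical.OrthTrans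
open Cfsg.Agent.LieClassical.OrthSimple Cfsg.Agent.LieClassical.OrthFinite
open Cfsg.Agent.LieClassical.OrthForms
open Cfsg.Agent.TitsThree.KSideO Cfsg.Agent.TitsThree.StdData
open Cfsg.Agent.H716.RGDAb Cfsg.Agent.H353.PanC

/-- the admissible pairs of an orthogonal frame -/
theorem card_adm {F V : Type*} [Field F] [AddCommGroup V] [Module F V] {Q : QuadraticForm F V} {m : ℕ}
    (W : WFrame (PO Q) m) : Nat.card (toFrame W).Adm = Nat.card W.V0 :=
  Nat.card_congr
    { toFun := fun p => ⟨p.w, p.ok.1⟩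
      invFun := fun w => ⟨w.1, -Q w.1, ⟨w.2, rfl⟩⟩
      left_inv := fun p => Frame.Adm.ext rfl p.ok.2.symm
      right_inv := fun _ => rfl }

variable {F : Type*} [Field F] {m : ℕ}

theorem card_V0_odd : Nat.card (wodd m F).V0 = Nat.card F :=
  Nat.card_congr
    { toFun := fun v => v.1 (Sum.inl ())
      invFun := fun c => ⟨Pi.single (Sum.inl ()) c, fun j => by simp⟩
      left_inv := fun v => by
        apply Subtype.ext
        funext j
        rcases j with j | j
        · simp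
        · have h : v.1 (Sum.inr j) = 0 := v.2 j
          simp [h]
      right_inv := fun c => by simp }

theorem card_V0_minus [Finite F] {a b : F} (hab : ∀ z₁ z₂ : F, z₁ ^ 2 + a * z₁ * z₂ + b * z₂ ^ 2 = 0 → z₁ = 0 ∧ z₂ = 0) :
    Nat.card (wminus m F a b hab).V0 = Nat.card F ^ 2 := by
  have h1 : Nat.card (wminus m F a b hab).V0 = Nat.card (Fin 2 → F) :=
    Nat.card_congr
      { toFun := fun v j => v.1 (Sum.inr j)
        invFun := fun c => ⟨Sum.elim 0 c, fun j => rfl⟩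
        left_inv := fun v => by
          apply Subtype.ext
          funext j
          rcases j with j | j
          · exact (v.2 j).symm
          · rfl
        right_inv := fun c => rfl }
  rw [h1, Nat.card_fun, Nat.card_eq_fintype_card (α := Fin 2), Fintype.card_fin]

/-- **`PΩ_{2m+1}(F)`** -/
theorem pan_po_odd [Finite F] (hm : 3 ≤ m) {p : ℕ} [Fact p.Prime] (hp : p ≠ 2) [CharP F p] :
    Cfsg.Agent.H50.Her.HasPan p (CoxeterMatrix.B m) (fun _ => Nat.card F) (POmega F (quadFormOdd m F)) := by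
  have h2 : (2 : F) ≠ 0 := by
    intro h2
    have h3 : CharP F 2 := CharTwo.of_one_ne_zero_of_two_eq_zero one_ne_zero h2
    exact hp (CharP.eq F ‹CharP F p› h3)
  rw [← coe_oddForm]
  have hG : _root_.Cfsg.Agent.LieClassical.OrthTrans.Good (oddForm m F) := by
    apply good_of_finite (nondeg_oddForm m F h2)
    rw [Module.finrank_fintype_fun_eq_card, Fintype.card_sum, Fintype.card_sum, Fintype.card_fin,
      Fintype.card_unit]
    omega
  have hp : ((embOdd m F).ngt ⟨1, -1 ^ 2, rfl⟩).c ≠ 0 := by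
    change (1 : F)⁻¹ * (-1 ^ 2) ≠ 0
    simp
  have hA : AmbT (toFrame (wodd m F)) p (E (oddForm m F)) := AmbT.of_amb (amb_O_of_two _ h2) p
  refine pan_C (model (wodd m F) hG ⟨_, hp⟩) hA hp (by omega) (fun s hs t ht => comm_V0_of_line hA ?_ hs ht)
    (fun _ _ => rfl) (fun _ _ => by rw [card_adm, card_V0_odd])
  have hdim := finrank_V0 (Fr := toFrame (wodd m F))
  rw [Module.finrank_fintype_fun_eq_card, Fintype.card_sum, Fintype.card_sum, Fintype.card_fin,
      Fintype.card_unit] at hdim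
  have h1 : Module.finrank F ↥(toFrame (wodd m F)).V0 ≤ 1 := by omega
  obtain ⟨v, hv⟩ := finrank_le_one_iff.1 h1
  refine ⟨v.1, fun w hw => ?_⟩
  obtain ⟨c, hc⟩ := hv ⟨w, hw⟩
  exact ⟨c, (congrArg Subtype.val hc).symm⟩

variable {a b : F}

theorem rot_two (h2 : (2 : F) = 0) (ha : a ≠ 0) {x y z w : F} (h1 : x ^ 2 + a * x * z + b * z ^ 2 = 1)
    (hN : y ^ 2 + a * y * w + b * w ^ 2 = b) (hB : 2 * x * y + a * (x * w + z * y) + 2 * b * z * w = a) :
    (y = -(b * z) ∧ w = x + a * z) ∨ (y = -(a * x + b * z) ∧ w = x) := by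
  have hr : x * w - z * y = 1 := by
    apply mul_left_cancel₀ ha
    linear_combination hB - (x * y + a * z * y + b * z * w) * h2
  obtain ⟨r, hr'⟩ : ∃ r, r = (x + a * z) * y + b * z * w := ⟨_, rfl⟩
  have hp : r * (r + a) = 0 := by
    have h3 : r ^ 2 + a * r * (x * w - z * y) + b * (x * w - z * y) ^ 2 =
        (x ^ 2 + a * x * z + b * z ^ 2) * (y ^ 2 + a * y * w + b * w ^ 2) := by
      rw [hr']; ring
    rw [h1, hN, hr] at h3
    linear_combination h3
  have hy : y = x * r - b * z := by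
    have : y * (x ^ 2 + a * x * z + b * z ^ 2) = x * r - b * z * (x * w - z * y) := by rw [hr']; ring
    rw [h1, hr] at this
    linear_combination this
  have hw : w = x + z * r + a * z := by
    have : w * (x ^ 2 + a * x * z + b * z ^ 2) = x * (x * w - z * y) + z * r + a * z * (x * w - z * y) := by
      rw [hr']; ring
    rw [h1, hr] at this
    linear_combination this
  rcases mul_eq_zero.1 hp with h | h
  · left
    rw [h] at hy hw
    exact ⟨by linear_combination hy, by linear_combination hw⟩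
  · right
    have h' : r = -a := by linear_combination h
    rw [h'] at hy hw
    exact ⟨by linear_combination hy, by linear_combination hw⟩

variable (hab : ∀ z₁ z₂ : F, z₁ ^ 2 + a * z₁ * z₂ + b * z₂ ^ 2 = 0 → z₁ = 0 ∧ z₂ = 0)

/-- the action of the torus on the anisotropic plane, even characteristic -/
theorem exists_rot_two [Finite F] [CharP F 2]
    (hA : AmbT (toFrame (wminus m F a b hab)) 2 (E (minusForm m F a b)))
    {g : ((Fin m ⊕ Fin m) ⊕ Fin 2 → F) ≃ₗ[F] ((Fin m ⊕ Fin m) ⊕ Fin 2 → F)}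
    (hg : g ∈ Tor (toFrame (wminus m F a b hab)) (E (minusForm m F a b))) :
    ∃ x z : F, g (e0 m F) = x • e0 m F + z • e1 m F ∧
      g (e1 m F) = (-(b * z)) • e0 m F + (x + a * z) • e1 m F := by
  classical
  have h2 : (2 : F) = 0 := CharTwo.two_eq_zero
  have ha : a ≠ 0 := by
    rintro rfl
    -- the form is not anisotropic
    obtain ⟨c, hc⟩ : ∃ c : F, c ^ 2 = b := by
      have h3 : Function.Injective fun c : F => c ^ 2 := by
        intro c d hcd
        have h4 : (c - d) ^ 2 = 0 := by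
          have h5 : c ^ 2 = d ^ 2 := hcd
          linear_combination h5 + (d ^ 2 - c * d) * h2
        exact sub_eq_zero.1 (pow_eq_zero_iff (two_ne_zero) |>.1 h4)
      exact (Finite.injective_iff_surjective.1 h3) b
    have h3 := hab c 1 (by linear_combination hc + b * h2)
    exact one_ne_zero h3.2
  have hV0 : ∀ w ∈ (toFrame (wminus m F a b hab)).V0, g w ∈ (toFrame (wminus m F a b hab)).V0 :=
    fun w hw => hA.map_V0 hg.1 hg.2 (ρ := id) (fun _ => rfl) hw
  have hiso : ∀ u v, polar (minusForm m F a b) (g u) (g v) = polar (minusForm m F a b) u v :=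
    fun u v => polar_map (E_le_O hg.1) u v
  have hQ : ∀ u, minusForm m F a b (g u) = minusForm m F a b u := fun u => mem_O.1 (E_le_O hg.1) u
  have hm0 : e0 m F ∈ (toFrame (wminus m F a b hab)).V0 := fun j => by simp [e0]
  have hm1 : e1 m F ∈ (toFrame (wminus m F a b hab)).V0 := fun j => by simp [e1]
  have h0 : ∀ j, g (e0 m F) (Sum.inl j) = 0 := hV0 _ hm0
  have h1 : ∀ j, g (e1 m F) (Sum.inl j) = 0 := hV0 _ hm1
  set x := g (e0 m F) (Sum.inr 0) with hx
  set z := g (e0 m F) (Sum.inr 1) with hz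
  set y := g (e1 m F) (Sum.inr 0) with hy
  set w := g (e1 m F) (Sum.inr 1) with hw
  have e0' : g (e0 m F) = x • e0 m F + z • e1 m F := by
    funext j
    rcases j with j | j
    · rw [h0]; simp [e0, e1]
    · fin_cases j
      · simp [e0, e1, hx]
      · simp [e0, e1, hz]
  have e1' : g (e1 m F) = y • e0 m F + w • e1 m F := by
    funext j
    rcases j with j | j
    · rw [h1]; simp [e0, e1]
    · fin_cases j
      · simp [e0, e1, hy]
      · simp [e0, e1, hw]
  have hq : x ^ 2 + a * x * z + b * z ^ 2 = 1 := by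
    have h3 := hQ (e0 m F)
    rw [coe_minusForm, quadFormMinus_apply, quadFormMinus_apply] at h3
    simp only [h0, e0', Pi.add_apply, Pi.smul_apply, smul_eq_mul] at h3
    simp only [e0, e1, _root_.MulZeroClass.mul_zero, _root_.Finset.sum_const_zero, _root_.Fin.isValue, _root_.Pi.single_eq_same, _root_.mul_one, _root_.ne_eq, _root_.Sum.inr.injEq, _root_.zero_ne_one, _root_.not_false_eq_true, _root_.Pi.single_eq_of_ne, _root_.add_zero, _root_.one_ne_zero, _root_.zero_add, _root_.reduceCtorEq, _root_.one_pow, _root_.OfNat.ofNat_ne_zero, _root_.zero_pow] at h3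
    exact h3
  have hN : y ^ 2 + a * y * w + b * w ^ 2 = b := by
    have h3 := hQ (e1 m F)
    rw [coe_minusForm, quadFormMinus_apply, quadFormMinus_apply] at h3
    simp only [h1, e1', Pi.add_apply, Pi.smul_apply, smul_eq_mul] at h3
    simp only [e0, e1, _root_.MulZeroClass.mul_zero, _root_.Finset.sum_const_zero, _root_.Fin.isValue, _root_.Pi.single_eq_same, _root_.mul_one, _root_.ne_eq, _root_.Sum.inr.injEq, _root_.zero_ne_one, _root_.not_false_eq_true, _root_.Pi.single_eq_of_ne, _root_.add_zero, _root_.one_ne_zero, _root_.zero_add, _root_.reduceCtorEq, _root_.OfNat.ofNat_ne_zero, _root_.zero_pow, _root_.one_pow] at h3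
    exact h3
  have hB : 2 * x * y + a * (x * w + z * y) + 2 * b * z * w = a := by
    have h3 := hiso (e0 m F) (e1 m F)
    rw [e0', e1', polar_minusForm, polar_minusForm] at h3
    simp only [e0, e1, _root_.Fin.isValue, _root_.Pi.add_apply, _root_.Pi.smul_apply, _root_.ne_eq, _root_.reduceCtorEq, _root_.not_false_eq_true, _root_.Pi.single_eq_of_ne, _root_.smul_eq_mul, _root_.MulZeroClass.mul_zero, _root_.add_zero, _root_.Finset.sum_const_zero, _root_.Pi.single_eq_same, _root_.mul_one, _root_.Sum.inr.injEq, _root_.zero_ne_one, _root_.one_ne_zero, _root_.zero_add] at h3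
    linear_combination h3
  rcases rot_two h2 ha hq hN hB with ⟨h4, h5⟩ | ⟨h4, h5⟩
  · exact ⟨x, z, e0', by rw [← h4, ← h5]; exact e1'⟩
  -- an involution on the plane; but the torus has odd order
  have q0 : g (g (e0 m F)) = e0 m F := by
    rw [e0', map_add, map_smul, map_smul, e0', e1', h4, h5]
    have h6 : x ^ 2 - a * x * z - b * z ^ 2 = 1 := by linear_combination hq - (a * x * z + b * z ^ 2) * h2
    have h7 : x • (x • e0 m F + z • e1 m F) + z • (-(a * x + b * z) • e0 m F + x • e1 m F) =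
        (x ^ 2 - a * x * z - b * z ^ 2) • e0 m F + (2 * x * z) • e1 m F := by module
    rw [h7, h6, h2, zero_mul, zero_mul, zero_smul, one_smul, add_zero]
  have q1 : g (g (e1 m F)) = e1 m F := by
    rw [e1', map_add, map_smul, map_smul, e0', e1', h4, h5]
    have h6 : x ^ 2 - a * x * z - b * z ^ 2 = 1 := by linear_combination hq - (a * x * z + b * z ^ 2) * h2
    have h7 : (-(a * x + b * z)) • (x • e0 m F + z • e1 m F) + x • (-(a * x + b * z) • e0 m F + x • e1 m F) =
        (2 * (-(a * x + b * z) * x)) • e0 m F + (x ^ 2 - a * x * z - b * z ^ 2) • e1 m F := by module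
    rw [h7, h6, h2, zero_mul, zero_smul, one_smul, zero_add]
  have hfin : Finite (((Fin m ⊕ Fin m) ⊕ Fin 2 → F) ≃ₗ[F] ((Fin m ⊕ Fin m) ⊕ Fin 2 → F)) :=
    Finite.of_injective (fun g : ((Fin m ⊕ Fin m) ⊕ Fin 2 → F) ≃ₗ[F] ((Fin m ⊕ Fin m) ⊕ Fin 2 → F) =>
      (g : ((Fin m ⊕ Fin m) ⊕ Fin 2 → F) → ((Fin m ⊕ Fin m) ⊕ Fin 2 → F))) DFunLike.coe_injective
  have hfact : Fact (Nat.Prime 2) := ⟨Nat.prime_two⟩
  have hcop := hA.tcop
  obtain ⟨k, hk⟩ : Odd (Nat.card (Tor (toFrame (wminus m F a b hab)) (E (minusForm m F a b)))) :=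
    Nat.coprime_two_right.1 hcop
  have hpow : g ^ (2 * k + 1) = 1 := by
    rw [← hk]
    have := pow_card_eq_one' (G := Tor (toFrame (wminus m F a b hab)) (E (minusForm m F a b))) (x := ⟨g, hg⟩)
    exact congrArg Subtype.val this
  have hfix : ∀ v, g (g v) = v → g v = v := by
    intro v hv
    have h6 : ∀ j : ℕ, ((g ^ 2) ^ j) v = v := by
      intro j
      induction j with
      | zero => rfl
      | succ j ih =>
        rw [pow_succ]
        show ((g ^ 2) ^ j) ((g ^ 2) v) = v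
        have : (g ^ 2) v = v := by
          rw [pow_two]
          exact hv
        rw [this, ih]
    have h7 : g v = (g ^ (2 * k + 1)) v := by
      rw [pow_succ', pow_mul]
      show g v = g (((g ^ 2) ^ k) v)
      rw [h6]
    rw [h7, hpow]
    rfl
  refine ⟨1, 0, ?_, ?_⟩
  · rw [hfix _ q0]; simp
  · rw [hfix _ q1]; simp

include hab in
/-- **`PΩ⁻_{2m+2}(F)`** -/
theorem pan_po_minus [Finite F] (hm : 2 ≤ m) {p : ℕ} [Fact p.Prime] [CharP F p] :
    Cfsg.Agent.H50.Her.HasPan p (CoxeterMatrix.B m) (fun i => if (i : ℕ) + 1 < m then Nat.card F else Nat.card F ^ 2)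
      (POmega F (quadFormMinus m F a b)) := by
  rw [← coe_minusForm]
  have hG : _root_.Cfsg.Agent.LieClassical.OrthTrans.Good (minusForm m F a b) := by
    apply good_of_finite (nondeg_minusForm m F a b hab)
    rw [Module.finrank_fintype_fun_eq_card, Fintype.card_sum, Fintype.card_sum, Fintype.card_fin,
      Fintype.card_fin]
    omega
  have hp : ((embMinus m F a b hab).ngt ⟨(1, 0), -nf a b (1, 0), rfl⟩).c ≠ 0 := by
    change (1 : F)⁻¹ * (-nf a b (1, 0)) ≠ 0
    simp [nf]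
  have hmain : ∃ _ : AmbT (toFrame (wminus m F a b hab)) p (E (minusForm m F a b)),
      ∀ g ∈ Tor (toFrame (wminus m F a b hab)) (E (minusForm m F a b)),
        ∃ x z : F, g (e0 m F) = x • e0 m F + z • e1 m F ∧
          g (e1 m F) = (-(b * z)) • e0 m F + (x + a * z) • e1 m F := by
    by_cases h2 : (2 : F) = 0
    · have h3 : CharP F 2 := CharTwo.of_one_ne_zero_of_two_eq_zero one_ne_zero h2
      have hp2 : p = 2 := CharP.eq F ‹CharP F p› h3
      subst hp2
      have hA : AmbT (toFrame (wminus m F a b hab)) 2 (E (minusForm m F a b)) :=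
        ambT_O _ fun g hg hg2 hb => fixp_minus a b hab h2 hm hG hg hg2 hb
      exact ⟨hA, fun g hg => exists_rot_two hab hA hg⟩
    · have hA : AmbT (toFrame (wminus m F a b hab)) p (E (minusForm m F a b)) := AmbT.of_amb (amb_O_of_two _ h2) p
      exact ⟨hA, fun g hg => exists_rot hab h2 hG
        (fun g hg w hw => hA.map_V0 hg.1 hg.2 (ρ := id) (fun _ => rfl) hw) hg⟩
  obtain ⟨hA, hrot⟩ := hmain
  refine pan_C (model (wminus m F a b hab) hG ⟨_, hp⟩) hA hp (by omega) (fun s hs t ht w hw => ?_)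
    (fun i hi => if_pos hi) (fun i hi => by rw [if_neg hi, card_adm, card_V0_minus])
  obtain ⟨x, z, hs0, hs1⟩ := hrot s hs
  obtain ⟨x', z', ht0, ht1⟩ := hrot t ht
  have hw' : ∀ j, w (Sum.inl j) = 0 := hw
  have hwe : w = w (Sum.inr 0) • e0 m F + w (Sum.inr 1) • e1 m F := by
    funext j
    rcases j with j | j
    · rw [hw']; simp [e0, e1]
    · fin_cases j
      · simp [e0, e1]
      · simp [e0, e1]
  have c0 : s (t (e0 m F)) = t (s (e0 m F)) := by
    rw [ht0, hs0, map_add, map_smul, map_smul, map_add, map_smul, map_smul, ht0, ht1, hs0, hs1]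
    simp only [smul_add, smul_smul]
    module
  have c1 : s (t (e1 m F)) = t (s (e1 m F)) := by
    rw [ht1, hs1, map_add, map_smul, map_smul, map_add, map_smul, map_smul, ht0, ht1, hs0, hs1]
    simp only [smul_add, smul_smul]
    module
  rw [hwe]
  simp only [map_add, map_smul]
  rw [c0, c1]

end Cfsg.Agent.H353.PanO
end

-- part: H60/HerTwF4
section
prune_inst 0x1000440080000000000008611003c66ce000190002b0001994008000c86d32100002720f4901a0201ce22a440384040020800c9401000002e000200411c00a0802950021334ac0010000100b806000000000000000000000000000000041004000000000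
set_option linter.all false
open scoped Cfsg.Agent.FastGrp

/-!
# The building of `²F₄(q)` with its system of Sylow 2-subgroups (helper60, task of helper50)

`sys_twF4` : a group `Y` with `Y / Z(Y) ≅ ²F₄(q)`, `|Z(Y)|` odd, acts on a finite thick building of type `I₂(8)` with a
system of Sylow `2`-subgroups; `|Y|₂ = 2 ^ (12 (2 m + 1))`.
-/

set_option autoImplicit false
set_option linter.unusedSectionVars false

namespace Cfsg.Agent.H60.HerTwF4

open Cfsg.Lie
open Cfsg.Agent.ChevalleyStructure.TwF4.Tables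
open Cfsg.Agent.ChevalleyStructure.TwF4.Rel
open Cfsg.Agent.ChevalleyStructure.TwF4.Groups Cfsg.Agent.ChevalleyStructure.TwF4.RankOne
open Cfsg.Agent.ChevalleyStructure.TwF4.Twisted Cfsg.Agent.ChevalleyStructure.TwF4.TwistedFix
open Cfsg.Agent.ChevalleyStructure.TwF4.BN
open Cfsg.Agent.ChevalleyStructure.TwF4.Torus (T chi T_conj_X T_inr chi_def)
open Cfsg.Agent.ChevalleyStructure.TwF4.TwGen (tc tc_mul chi_tc_24 chi_tc_25 chi_tc_33 chi_tc_27)
open Cfsg.Agent.ChevalleyStructure.TwF4.TorusFix (mem_iff)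
open Cfsg.Agent.ChevalleyStructure.TwF4.NStruct (R permHom permHom_eq_one_iff)
open Cfsg.Agent.ChevalleyStructure.TwF4.NRoot (P1 P2 P1_val P2_val permHom_n1 permHom_n2)
open Cfsg.Agent.ParSys.Fam.TwoFFour
open Cfsg.Agent.Schreier.TwFFour
open Cfsg.Agent.Octagon.KSys Cfsg.Agent.Octagon.KPar Cfsg.Agent.Octagon.KRoot Cfsg.Agent.Octagon.Pkg
open Cfsg.Agent.Tits.Core Cfsg.Agent.FixBN Cfsg.Agent.FixBN.Transport Cfsg.Agent.H905.DC

universe u v

section

variable {K : Type*} [Field K] [Fintype K] {m : ℕ}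

/-- **The split (B,N)-pair of `²F₄(q)`**, explicitly -/
theorem exists_split (hm : 1 ≤ m) (hK : Fintype.card K = 2 ^ (2 * m + 1)) [CharP K 2] :
    ∃ (P : Cfsg.BNPair ↥(twistedF4 K (2 ^ m))) (U : Subgroup ↥(twistedF4 K (2 ^ m))) (s t : ↥(twistedF4 K (2 ^ m))),
      Split P 2 U ∧ P.B = (chevF4.borelSubgroup K).subgroupOf (twistedF4 K (2 ^ m)) ∧
      P.N = (chevF4.monomialSubgroup K).subgroupOf (twistedF4 K (2 ^ m)) ∧ P.S = {s, t} ∧
      (s : GL chevF4.Idx K) = n1 K ∧ (t : GL chevF4.Idx K) = n2 K := by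
  have : Fact (Nat.Prime 2) := ⟨Nat.prime_two⟩
  obtain ⟨φ, hφ⟩ := exists_rln hK
  obtain ⟨P, hPB, hPN, -, hPS⟩ := Cfsg.Agent.ChevalleyStructure.TwF4.BNIrred.exists_bnPair_irreducible hφ
  have hB : P.B = B0 K (2 ^ m) := hPB
  have hdec := dec hK hφ
  have hUp := isPGroup_U0 hK
  set s1 : ↥(twistedF4 K (2 ^ m)) := m1 K (2 ^ m) with hs1
  set s2 : ↥(twistedF4 K (2 ^ m)) := m2 hφ with hs2
  have node_1 : Cfsg.Agent.Schreier.BNSch.Node P (U0 K (2 ^ m)) s1 (V1 K (2 ^ m)) := node1 hφ hB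
  have node_2 : Cfsg.Agent.Schreier.BNSch.Node P (U0 K (2 ^ m)) s2 (V8 K (2 ^ m)) := node2 hφ hB
  have hdB : ∀ b ∈ P.B, ∃ s t : Kˣ, ∃ u ∈ U0 K (2 ^ m), b = u * tt hdec s t := by
    intro b hb
    rw [hB] at hb
    obtain ⟨s, t, u, hu, hbu⟩ := hdec.1 b hb
    exact ⟨s, t, u, hu, Subtype.ext hbu⟩
  have httB : ∀ s t : Kˣ, tt hdec s t ∈ P.B := fun s t => by rw [hB]; exact tt_B0 hdec s t
  have httN : ∀ s t : Kˣ, tt hdec s t ∈ P.N := fun s t => by
    rw [hPN]
    exact Cfsg.Agent.ChevalleyStructure.TwF4.NStruct.T_mem_N _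
  have hH : ∀ h ∈ P.B, h ∈ P.N → ∃ s t : Kˣ, h = tt hdec s t := by
    intro h hh hN
    rw [hPB, Subgroup.mem_subgroupOf] at hh
    rw [hPN, Subgroup.mem_subgroupOf] at hN
    have h1 := borel_inf_N ⟨hh, hN⟩
    obtain ⟨s, t, hst⟩ := (mem_iff hK (h : GL chevF4.Idx K)).1 ⟨h1, h.2⟩
    exact ⟨s, t, Subtype.ext hst⟩
  have hUB : U0 K (2 ^ m) ≤ P.B := by rw [hB]; exact U0_le_B0
  have hnorm : ∀ b ∈ P.B, ∀ u ∈ U0 K (2 ^ m), b * u * b⁻¹ ∈ U0 K (2 ^ m) := fun b hb u hu => by
    rw [hB] at hb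
    exact conj_U0 hb hu
  have hsplit : FixBN.Split P 2 (U0 K (2 ^ m)) :=
    { le := hUB
      norm := hnorm
      isP := hUp
      cover := fun b hb => by
        obtain ⟨s, t, u, hu, rfl⟩ := hdB b hb
        refine ⟨u, hu, ?_⟩
        rw [inv_mul_cancel_left]
        exact httN s t
      tor := ⟨2 ^ (2 * m + 1) - 1, by
        have h1 : 2 ∣ 2 ^ (2 * m + 1) := dvd_pow_self 2 (by omega)
        have h2 : 0 < 2 ^ (2 * m + 1) := by positivity
        omega, fun h hh hN => by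
        obtain ⟨s, t, rfl⟩ := hH h hh hN
        apply Subtype.ext
        show T (tc (2 ^ m) s t) ^ (2 ^ (2 * m + 1) - 1) = 1
        rw [← map_pow]
        have h2 : tc (2 ^ m) s t ^ (2 ^ (2 * m + 1) - 1) = 1 := by
          have h3 : ∀ x : Kˣ, x ^ (2 ^ (2 * m + 1) - 1) = 1 := by
            intro x
            have h4 := pow_card_eq_one' (x := x)
            rwa [Nat.card_units, Nat.card_eq_fintype_card, hK] at h4
          funext l
          rw [Pi.pow_apply, h3]; rfl
        rw [h2, map_one]⟩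
      node := by
        intro s hs
        rw [hPS] at hs
        rcases hs with rfl | hs
        · exact ⟨_, node_1⟩
        · rw [Set.mem_singleton_iff] at hs
          subst hs
          exact ⟨_, node_2⟩
      core := by
        obtain ⟨hsimp, -⟩ := Cfsg.Agent.S1072.result hm hK
        rcases hsimp.eq_bot_or_eq_top_of_normal P.B.normalCore inferInstance with h | h
        · exact h
        · exfalso
          have h1 : P.B = ⊤ := by
            rw [eq_top_iff, ← h]
            exact Subgroup.normalCore_le _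
          obtain ⟨u, hu, huV⟩ := node_1.ne
          exact huV (node_1.stab u hu (by rw [h1]; exact Subgroup.mem_top _)) }
  exact ⟨P, U0 K (2 ^ m), s1, s2, hsplit, hPB, hPN, hPS, rfl, rfl⟩

end

section

variable {K : Type*} [Field K] [CharP K 2]

theorem pow8_mem : (n1 K * n2 K) ^ 8 ∈ chevF4.diagonalSubgroup K := by
  have h := (permHom_eq_one_iff (((⟨n1 K, n1_mem_N⟩ : ↥(chevF4.monomialSubgroup K)) * ⟨n2 K, n2_mem_N⟩) ^ 8)).1 (by
    rw [map_pow, map_mul, permHom_n1, permHom_n2]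
    exact Cfsg.Agent.ChevalleyStructure.TwF4.WeylDih.P_pow)
  exact h

theorem pow4_not_mem : (n1 K * n2 K) ^ 4 ∉ chevF4.borelSubgroup K := by
  intro hb
  have hN : (n1 K * n2 K) ^ 4 ∈ chevF4.monomialSubgroup K := pow_mem (mul_mem n1_mem_N n2_mem_N) 4
  have h := borel_inf_N ⟨hb, hN⟩
  have h1 := (permHom_eq_one_iff (((⟨n1 K, n1_mem_N⟩ : ↥(chevF4.monomialSubgroup K)) * ⟨n2 K, n2_mem_N⟩) ^ 4)).2 h
  rw [map_pow, map_mul, permHom_n1, permHom_n2] at h1
  have h2 := Cfsg.Agent.ChevalleyStructure.TwF4.WeylDih.pow_val 4 Cfsg.Agent.ChevalleyStructure.TwF4.WeylDih.r33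
  rw [h1] at h2
  revert h2
  decide +kernel

end

open Cfsg.Agent.Omega.ML.Ex.Typ in
/-- `²F₄(q)` has a split (B,N)-pair of characteristic 2 and type `I₂(8)` -/
theorem hasSplitT {K : Type v} [Field K] [Fintype K] {m : ℕ} (hm : 1 ≤ m) (hK : Fintype.card K = 2 ^ (2 * m + 1))
    {L : Type u} [Group L] [Finite L] (e : ↥(twistedF4 K (2 ^ m)) ≃* L) :
    ∃ M : CoxeterMatrix (Fin 2), M 0 1 = 8 ∧ HasSplitT 2 M L := by
  have : CharP K 2 := Cfsg.Agent.ChevalleyStructure.F4Fixed.charP_two hK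
  obtain ⟨P, U, s, t, hsp, hB, hN, hS, hs, ht⟩ := exists_split hm hK
  set Q := mapBN e P with hQ
  have hQS : Q.S = {e s, e t} := by
    change e '' P.S = _
    rw [hS, Set.image_pair]
  have hQB : ∀ x, e x ∈ Q.B ↔ x ∈ P.B := fun x => Cfsg.Agent.ParSys.Fam.mem_mapB e
  have hQN : ∀ x, e x ∈ Q.N ↔ x ∈ P.N := fun x => Cfsg.Agent.ParSys.Fam.mem_mapN e
  have hsN : s ∈ P.N := P.subset (by rw [hS]; exact Or.inl rfl)
  have htN : t ∈ P.N := P.subset (by rw [hS]; exact Or.inr rfl)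
  have hne : e s ≠ e t := by
    intro h
    have h1 := congrArg (fun x : ↥(twistedF4 K (2 ^ m)) => (x : GL chevF4.Idx K)) (e.injective h)
    have h2 : n1 K = n2 K := by rw [← hs, ← ht]; exact h1
    apply n1_inv_mul_n2 (K := K)
    rw [h2, inv_mul_cancel]
    exact one_mem _
  let g : Fin 2 → Q.S := ![⟨e s, by rw [hQS]; exact Or.inl rfl⟩, ⟨e t, by rw [hQS]; exact Or.inr rfl⟩]
  have hg : Function.Bijective g := by
    constructor
    · intro i j hij
      fin_cases i <;> fin_cases j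
      · rfl
      · exact absurd (congrArg Subtype.val hij) hne
      · exact absurd (congrArg Subtype.val hij).symm hne
      · rfl
    · rintro ⟨x, hx⟩
      have hx' := hx
      rw [hQS] at hx'
      rcases hx' with rfl | hx'
      · exact ⟨0, rfl⟩
      · rw [Set.mem_singleton_iff] at hx'
        subst hx'
        exact ⟨1, rfl⟩
  let f : Q.S ≃ Fin 2 := (Equiv.ofBijective g hg).symm
  obtain ⟨M', hM'⟩ := Cfsg.Agent.Tits.Labels.exists_bnType Q
  refine ⟨M'.reindex f, ?_, Q, U.map e.toMonoidHom, f.symm, split e P hsp,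
    Cfsg.Agent.Tits.Labels.bnType_reindex hM' f⟩
  obtain ⟨hNn, cs, hcs⟩ := hM'
  have hfinS : Finite Q.S := Finite.of_equiv _ f.symm
  have h1 : M'.reindex f 0 1 = M' (g 0) (g 1) := rfl
  rw [h1, ← Cfsg.Agent.Tits.Generic.orderOf_eq (cs := cs) (g 0) (g 1), hcs, hcs]
  -- the order
  have hpow : ∀ k : ℕ, (((n1 K * n2 K) ^ k ∈ chevF4.borelSubgroup K) ↔
      ((QuotientGroup.mk (⟨(g 0 : L), Q.subset (g 0).2⟩ : Q.N) : Q.N ⧸ (Q.B ⊓ Q.N).subgroupOf Q.N) *
        QuotientGroup.mk (⟨(g 1 : L), Q.subset (g 1).2⟩ : Q.N)) ^ k = 1) := by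
    intro k
    rw [← QuotientGroup.mk_mul, ← QuotientGroup.mk_pow, QuotientGroup.eq_one_iff, Subgroup.mem_subgroupOf,
      Subgroup.mem_inf]
    have e1 : (((((⟨(g 0 : L), Q.subset (g 0).2⟩ : Q.N) * ⟨(g 1 : L), Q.subset (g 1).2⟩) ^ k : Q.N)) : L) =
        e ((s * t) ^ k) := by
      rw [map_pow, map_mul]
      rfl
    rw [e1, hQB, hQN, hB, Subgroup.mem_subgroupOf]
    have e2 : (((s * t) ^ k : ↥(twistedF4 K (2 ^ m))) : GL chevF4.Idx K) = (n1 K * n2 K) ^ k := by
      rw [← hs, ← ht]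
      rfl
    rw [e2]
    exact ⟨fun h => ⟨h, pow_mem (mul_mem hsN htN) k⟩, fun h => h.1⟩
  refine orderOf_eq_of_pow_and_pow_div_prime (by norm_num) ((hpow 8).1 ?_) ?_
  · exact H_le_borel pow8_mem
  · intro p hp hd
    have h2 : p = 2 := (Nat.prime_dvd_prime_iff_eq hp Nat.prime_two).1 (hp.dvd_of_dvd_pow (show p ∣ 2 ^ 3 from hd))
    subst h2
    intro h3
    exact pow4_not_mem ((hpow 4).2 h3)

/-- **The building of `²F₄(q)`** for central extensions by groups of odd order -/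
theorem sys_twF4 {Y : Type u} {Y' : Type v} [Group Y] [Finite Y] [Group Y'] (h : Lie.Iso2F4 Y')
    (f : Y →* Y') (hf : f.ker = Subgroup.center Y) (hpf : (Nat.card f.ker).Coprime 2) (hs : Function.Surjective f) :
    ∃ M : CoxeterMatrix (Fin 2), M 0 1 = 8 ∧ HasSysT 2 M Y ∧ ∃ m, 12 * (2 * m + 1) = (Nat.card Y).factorization 2 := by
  have : Fact (Nat.Prime 2) := ⟨Nat.prime_two⟩
  obtain ⟨K, _, _, m, hm, hK, ⟨e⟩⟩ := h
  let L : Type u := ULift.{u} ↥(twistedF4 K (2 ^ m))
  let e1 : ↥(twistedF4 K (2 ^ m)) ≃* L := MulEquiv.ulift.symm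
  have hfin : Finite ↥(twistedF4 K (2 ^ m)) := Finite.of_surjective (fun y => e (f y)) (e.surjective.comp hs)
  have hfinL : Finite L := Finite.of_equiv _ e1.toEquiv
  obtain ⟨M, hM, hsp⟩ := hasSplitT hm hK e1
  let F : Y →* L := (e.trans e1).toMonoidHom.comp f
  have hker : F.ker = f.ker := by
    ext y
    rw [MonoidHom.mem_ker, MonoidHom.mem_ker]
    exact MulEquiv.map_eq_one_iff (e.trans e1)
  refine ⟨M, hM, ?_, m, ?_⟩
  · exact (hasSysT_of_splitT Nat.prime_two hsp).lift F (by rw [hker, hf]) (by rw [hker]; exact hpf)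
      ((e.trans e1).surjective.comp hs)
  · have h1 : Nat.card Y = Nat.card f.ker * Nat.card ↥(twistedF4 K (2 ^ m)) := by
      rw [← Subgroup.card_mul_index f.ker, Subgroup.index_ker, MonoidHom.range_eq_top.2 hs,
        Nat.card_congr Subgroup.topEquiv.toEquiv, Nat.card_congr e.toEquiv]
    have h2 : ¬ 2 ∣ Nat.card f.ker := by
      intro h2
      have h3 := Nat.Coprime.eq_one_of_dvd hpf.symm h2
      norm_num at h3
    have hq2 : 2 ∣ 2 ^ (2 * m + 1) := dvd_pow_self 2 (by omega)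
    have hq1 : 1 < 2 ^ (2 * m + 1) := Nat.one_lt_two_pow (by omega)
    set q := 2 ^ (2 * m + 1) with hq
    have hodd : ¬ 2 ∣ (q - 1) * (q ^ 3 + 1) * (q ^ 4 - 1) * (q ^ 6 + 1) := by
      have hqe : ∀ k, 0 < k → 2 ∣ q ^ k := fun k hk => hq2.trans (dvd_pow_self q hk.ne')
      have h3 := hqe 3 (by norm_num)
      have h4 := hqe 4 (by norm_num)
      have h6 := hqe 6 (by norm_num)
      have h4' : 0 < q ^ 4 := by positivity
      rw [Nat.prime_two.dvd_mul, Nat.prime_two.dvd_mul, Nat.prime_two.dvd_mul]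
      push Not
      refine ⟨⟨⟨?_, ?_⟩, ?_⟩, ?_⟩ <;> omega
    have h0 : (q - 1) * (q ^ 3 + 1) * (q ^ 4 - 1) * (q ^ 6 + 1) ≠ 0 := by
      intro h0
      rw [h0] at hodd
      exact hodd (dvd_zero 2)
    have h5 : Nat.card ↥(twistedF4 K (2 ^ m)) = q ^ 12 * ((q - 1) * (q ^ 3 + 1) * (q ^ 4 - 1) * (q ^ 6 + 1)) := by
      rw [S1068.result hK]
      ring
    rw [h1, h5, Nat.factorization_mul Nat.card_pos.ne' (mul_ne_zero (by positivity) h0),
      Nat.factorization_mul (by positivity) h0, Finsupp.add_apply, Finsupp.add_apply,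
      Nat.factorization_eq_zero_of_not_dvd h2, Nat.factorization_eq_zero_of_not_dvd hodd, hq, ← pow_mul,
      Nat.Prime.factorization_pow Nat.prime_two]
    simp
    ring

end Cfsg.Agent.H60.HerTwF4
end

-- part: H50/HerBld
section
set_option linter.all false

/-!
# Buildings with the orders of the panels; the unique length property (helper50, for S3695)

* `UniqLen cs J` : the `J`-minimal elements have different lengths;
* `HasBld p M q Y` : `Y` acts on a finite thick building of type `M` with a system of Sylow `p`-subgroups, the panels of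
  type `i` have `q i + 1` chambers, and the commutators of the elements which fix two opposite chambers are central.
-/

set_option autoImplicit false

namespace Cfsg.Agent.H50.Her

open Cfsg.Agent.Tits.Core Cfsg.Agent.Tits.Core.Bldg Cfsg.Agent.Tits.Exchange Cfsg.Agent.Tits Cfsg.Agent.FixBN

universe u

/-- The `J`-minimal elements have different lengths. -/
def UniqLen {I : Type*} {M : CoxeterMatrix I} {W : Type*} [Group W] (cs : CoxeterSystem M W) (J : Set I) : Prop :=
  ∀ w w' : W, IsMinR cs J w → IsMinR cs J w' → cs.length w = cs.length w' → w = w'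

/-- `Y` acts on a finite thick building of type `M` with a system of Sylow `p`-subgroups, panels of type `i` with `q i + 1`
chambers; the commutators of the elements fixing two opposite chambers are central. -/
def HasBld (p : ℕ) {I : Type*} (M : CoxeterMatrix I) (q : I → ℕ) (Y : Type u) [Group Y] : Prop :=
  ∃ (W C : Type u) (_ : Group W) (cs : CoxeterSystem M W) (_ : Finite W) (_ : Fintype C) (Δ : Bldg cs C)
    (_ : MulAction Y C), Δ.Thick ∧ Nonempty (Sys Δ Y p) ∧
      (∀ (x : C) (i : I), Nat.card {y : C // Δ.δ x y = cs.simple i} = q i) ∧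
      ∀ x y : C, Δ.Opp x y → ∀ g h : Y, g • x = x → g • y = y → h • x = x → h • y = y →
        g * h * g⁻¹ * h⁻¹ ∈ Subgroup.center Y

end Cfsg.Agent.H50.Her
end

-- part: H892/HerSz
section
set_option linter.all false
open scoped Cfsg.Agent.FastGrp

/-!
# Rank one groups with nonabelian Sylow `p`-subgroups (Hering hub, task G7)

* `sys_sz`, `sys_ree` : a central extension by a `p'`-group of a Suzuki or Ree group acts on a building of rank one
  with a system of Sylow `p`-subgroups, which are not abelian;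
* `psu3_noncomm`.
-/

set_option autoImplicit false

namespace Cfsg.Agent.H892.HerSz

open Cfsg
open Cfsg.Agent.Tits.Core Cfsg.Agent.Tits.Core.Bldg Cfsg.Agent.Tits.Exchange Cfsg.Agent.Tits
open Cfsg.Agent.FixBN Cfsg.Agent.Omega.ML.Ex.Typ Cfsg.Agent.H905.DC Cfsg.Agent.Nodes.RGDLift

universe u v w

/-- a (B,N)-pair with one distinguished generator has type `B 1`. -/
theorem splitT_of_single {p : ℕ} {K : Type*} [Group K] (P : Cfsg.BNPair K) (U : Subgroup K) {s : K}
    (hS : P.S = {s}) (h : Split P p U) : HasSplitT p (CoxeterMatrix.B 1) K := by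
  obtain ⟨M, hM⟩ := Labels.exists_bnType P
  have hu : Unique P.S := by
    rw [hS]
    infer_instance
  let f : P.S ≃ Fin 1 := Equiv.ofUnique _ _
  have h1 := Labels.bnType_reindex hM f
  have h2 : M.reindex f = CoxeterMatrix.B 1 := by
    ext i j
    have hi : i = j := Subsingleton.elim _ _
    subst hi
    rw [CoxeterMatrix.diagonal, CoxeterMatrix.diagonal]
  rw [h2] at h1
  exact ⟨P, U, _, h, h1⟩

theorem splitT_of_equiv {p : ℕ} {K L : Type*} [Group K] [Group L] (e : K ≃* L) (P : Cfsg.BNPair K)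
    (U : Subgroup K) {s : K} (hS : P.S = {s}) (h : Split P p U) :
    HasSplitT p (CoxeterMatrix.B 1) L := by
  refine splitT_of_single (Transport.mapBN e P) (U.map e.toMonoidHom) (s := e s) ?_ (Transport.split e P h)
  change e '' P.S = {e s}
  rw [hS, Set.image_singleton]

/-- lifting to a central extension -/
theorem sys_of_split {p : ℕ} [Fact p.Prime] {Y : Type u} {Y' : Type v} [Group Y] [Finite Y] [Group Y']
    (f : Y →* Y') (hf : f.ker = Subgroup.center Y) (hpf : (Nat.card f.ker).Coprime p)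
    (hs : Function.Surjective f) (P : Cfsg.BNPair Y') (U : Subgroup Y') {s : Y'} (hS : P.S = {s})
    (h : Split P p U) (hU : ∃ x ∈ U, ∃ y ∈ U, x * y ≠ y * x) :
    HasSysT p (CoxeterMatrix.B 1) Y ∧
      ∃ P : Subgroup Y, IsPGroup p P ∧ ∃ x ∈ P, ∃ y ∈ P, x * y ≠ y * x := by
  constructor
  · let e : Y ⧸ f.ker ≃* Y' := QuotientGroup.quotientKerEquivOfSurjective f hs
    have h1 : HasSplitT p (CoxeterMatrix.B 1) (Y ⧸ f.ker) := splitT_of_equiv e.symm P U hS h
    have h2 : HasSysT p (CoxeterMatrix.B 1) (Y ⧸ f.ker) := hasSysT_of_splitT Fact.out h1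
    have hk : (QuotientGroup.mk' f.ker).ker = f.ker := QuotientGroup.ker_mk' _
    exact h2.lift (QuotientGroup.mk' f.ker) (by rw [hk, hf]) (by rw [hk]; exact hpf)
      (QuotientGroup.mk'_surjective _)
  · refine ⟨lft p f U, isPGroup_lft hf.le h.isP, ?_⟩
    have hmap : (lft p f U).map f = U := map_lft hf.le hpf hs h.isP
    obtain ⟨x, hx, y, hy, hxy⟩ := hU
    rw [← hmap] at hx hy
    obtain ⟨x', hx', rfl⟩ := hx
    obtain ⟨y', hy', rfl⟩ := hy
    refine ⟨x', hx', y', hy', fun hc => hxy ?_⟩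
    rw [← map_mul, hc, map_mul]

/-! ### Suzuki groups -/

theorem sys_sz {Y : Type u} {Y' : Type v} [Group Y] [Finite Y] [Group Y'] (h : Lie.IsoSuzuki Y')
    (f : Y →* Y') (hf : f.ker = Subgroup.center Y) (hpf : (Nat.card f.ker).Coprime 2)
    (hs : Function.Surjective f) :
    HasSysT 2 (CoxeterMatrix.B 1) Y ∧ ∃ P : Subgroup Y, IsPGroup 2 P ∧ ∃ x ∈ P, ∃ y ∈ P, x * y ≠ y * x := by
  have : Fact (Nat.Prime 2) := ⟨Nat.prime_two⟩
  obtain ⟨K, i1, i2, m, hm, hK, ⟨e⟩⟩ := h
  have H := Cfsg.Agent.LieRecognition.SzMatrix.good hK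
  have hsimple : IsSimpleGroup ↥(Cfsg.Lie.Sz K (2 ^ (m + 1))) := Cfsg.Agent.S1162.result hm hK
  let g : Y →* ↥(Cfsg.Lie.Sz K (2 ^ (m + 1))) := e.toMonoidHom.comp f
  have hg : g.ker = f.ker := by
    ext x
    rw [MonoidHom.mem_ker, MonoidHom.mem_ker]
    exact map_eq_one_iff e e.injective
  refine sys_of_split g (by rw [hg, hf]) (by rw [hg]; exact hpf) (e.surjective.comp hs)
    (Cfsg.Agent.Omega.ML.LieRow.SzSplit.bnPair H) H.unip (s := H.w) rfl
    (Cfsg.Agent.Omega.ML.LieRow.SzSplit.split hm hK H hsimple) ?_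
  obtain ⟨c, hc0, hc1⟩ : ∃ c : K, c ≠ 0 ∧ c ≠ 1 := by
    by_contra hcon
    push Not at hcon
    have h1 : Fintype.card K ≤ 2 := by
      classical
      have h2 : (Finset.univ : Finset K) ⊆ {0, 1} := by
        intro x _
        by_cases hx : x = 0
        · rw [hx]; simp
        · rw [hcon x hx]; simp
      exact (Finset.card_le_card h2).trans Finset.card_le_two
    rw [hK] at h1
    have h3 : 2 ^ 3 ≤ 2 ^ (2 * m + 1) := Nat.pow_le_pow_right (by norm_num) (by omega)
    omega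
  refine ⟨H.u 1 0, H.u_mem_unip 1 0, H.u c 0, H.u_mem_unip c 0, fun hcon => ?_⟩
  rw [H.u_mul, H.u_mul] at hcon
  have h1 := (H.u_inj hcon).2
  rw [map_one, mul_one, one_mul, zero_add, zero_add, zero_add] at h1
  have h2 := H.sq c
  rw [h1, h1] at h2
  have h3 : c * (c - 1) = 0 := by linear_combination -h2
  rcases mul_eq_zero.1 h3 with h4 | h4
  · exact hc0 h4
  · exact hc1 (sub_eq_zero.1 h4)

/-! ### Ree groups -/

theorem sys_ree {Y : Type u} {Y' : Type v} [Group Y] [Finite Y] [Group Y'] (h : Lie.IsoRee Y')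
    (f : Y →* Y') (hf : f.ker = Subgroup.center Y) (hpf : (Nat.card f.ker).Coprime 3)
    (hs : Function.Surjective f) :
    HasSysT 3 (CoxeterMatrix.B 1) Y ∧ ∃ P : Subgroup Y, IsPGroup 3 P ∧ ∃ x ∈ P, ∃ y ∈ P, x * y ≠ y * x := by
  have : Fact (Nat.Prime 3) := ⟨Nat.prime_three⟩
  obtain ⟨K, i1, i2, m, hm, hK, ⟨e⟩⟩ := h
  obtain ⟨U, h, n, D⟩ := Cfsg.Agent.ChevalleyStructure.Ree.Data.exists_data hK
  let g : Y →* ↥(Cfsg.Lie.twistedG2 K (3 ^ m)) := e.toMonoidHom.comp f
  have hg : g.ker = f.ker := by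
    ext x
    rw [MonoidHom.mem_ker, MonoidHom.mem_ker]
    exact map_eq_one_iff e e.injective
  refine sys_of_split g (by rw [hg, hf]) (by rw [hg]; exact hpf) (e.surjective.comp hs)
    (ReeSplit.bnPair D) (Cfsg.Agent.LieRecognition.ReeSylowThree.uSub D) (s := n) rfl
    (ReeSplit.split hK D) ?_
  refine ⟨U 0 1 0, ⟨0, 1, 0, rfl⟩, U 1 0 0, ⟨1, 0, 0, rfl⟩, fun hcon => ?_⟩
  rw [D.U_mul, D.U_mul] at hcon
  have h1 := (Cfsg.Agent.LieRecognition.ReeSylowThree.U_injective D hcon).2.2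
  simp at h1

/-! ### `PSU₃(q)` -/

theorem psu3_noncomm {F : Type} [Field F] [Fintype F] {q : ℕ} (hF : Fintype.card F = q ^ 2) {p : ℕ}
    [Fact p.Prime] [CharP F p] :
    ∃ P : Subgroup (PSU 3 F q), IsPGroup p P ∧ ∃ x ∈ P, ∃ y ∈ P, x * y ≠ y * x :=
  Cfsg.Agent.H794.PsuNotAb.exists_pair hF le_rfl

end Cfsg.Agent.H892.HerSz
end

-- part: H965/XZ/PanPlus
section
prune_inst 0x21000040682200000018001632001c669e000002004b0000886009020cc9ca602005a621be70111280960cc460380040000801000020000024008000011c00a0940150021334ad04300001808800000000000000000000000000000000000000000000000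
set_option linter.all false
open scoped Cfsg.Agent.FastGrp

/-!
# Root group data of `PΩ⁺_{2m}(F)` with the orders of the simple root groups (helper965, for S4791 / S4927)

* `card_XD` : `|X (α_i)| = |F|` for the root groups of type `D_{n+2}` of a frame of a good quadratic form;
* `pan_po_plus` : `PΩ⁺_{2(n+3)}(F)`, type `D_{n+3}`, all root groups of order `|F|`, commutative torus.
-/

set_option autoImplicit false
set_option linter.unusedSectionVars false

namespace Cfsg.Agent.H965.XZ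

open Cfsg
open CoxeterSystem Cfsg.Agent.ChevalleyStructure.CoxeterGeom Cfsg.Agent.Tits.Roots
  Cfsg.Agent.Nodes.Comb Cfsg.Agent.Nodes.Reps Cfsg.Agent.Nodes.BNOf
  Cfsg.Agent.Nodes.RGDLib Cfsg.Agent.Nodes.TypeD
open Cfsg.Agent.Nodes Cfsg.Agent.Nodes.WittInst
open Cfsg.Agent.TitsThree Cfsg.Agent.TitsThree.Siegel Cfsg.Agent.TitsThree.SiegelGen
  Cfsg.Agent.TitsThree.WittFrame Cfsg.Agent.TitsThree.WBridge Cfsg.Agent.TitsThree.WittWeyl
  Cfsg.Agent.TitsThree.FrameCN
open QuadraticMap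
open Cfsg.Agent.LieClassical Cfsg.Agent.LieClassical.OrthCore Cfsg.Agent.LieClassical.OrthTrans
open Cfsg.Agent.LieClassical.OrthSimple Cfsg.Agent.LieClassical.OrthFinite
open Cfsg.Agent.LieClassical.OrthForms
open Cfsg.Agent.TitsThree.KSideO Cfsg.Agent.TitsThree.StdData

section

variable {ι : Type} [Fintype ι] [DecidableEq ι] {F : Type*} [Field F] {Q : QuadraticForm F (ι → F)} {n : ℕ}
  (W : WFrame (PO Q) (n + 2)) (hG : _root_.Cfsg.Agent.LieClassical.OrthTrans.Good Q)

theorem eq_zero_of_X_center {m : ℕ} (W : WFrame (PO Q) m) {x y : Fin m × Bool} (h : x.1 ≠ y.1) {t : F}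
    (ht : toPOmega hG ⟨(toFrame W).X x y t, X_mem W x y t⟩ = 1) : t = 0 := by
  obtain ⟨a, ha⟩ := scalar_of_center hG (center_of_toPOmega hG ht)
  have h1 : (toFrame W).b (neg y) + t • (toFrame W).b x = a • (toFrame W).b (neg y) := by
    rw [← LineBorel.X_apply_neg (toFrame W) h]
    exact ha _
  have h3 := congrArg (fun v => (HO Q).h v ((toFrame W).b (neg x))) h1
  have h4 : (HO Q).h ((toFrame W).b (neg y)) ((toFrame W).b (neg x)) = 0 := (toFrame W).hb_of_ne (Ne.symm h)
  simp only [(HO Q).add_left, (HO Q).smul_left, h4, mul_zero, zero_add] at h3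
  rcases mul_eq_zero.1 h3 with h5 | h5
  · exact h5
  · exact absurd h5 (by
      rw [(toFrame W).hb_self_neg]
      exact (toFrame W).η_ne _)

seal _root_.Finset.sum _root_.dotProduct in
theorem inj_X_center {m : ℕ} (W : WFrame (PO Q) m) {x y : Fin m × Bool} (h : x.1 ≠ y.1) :
    Function.Injective fun t : F => toPOmega hG ⟨(toFrame W).X x y t, X_mem W x y t⟩ := by
  intro s t hst
  have h1 : toPOmega hG ⟨(toFrame W).X x y (s - t), X_mem W x y (s - t)⟩ = 1 := by
    have h2 : (⟨(toFrame W).X x y (s - t), X_mem W x y (s - t)⟩ : E Q) =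
        ⟨(toFrame W).X x y s, X_mem W x y s⟩ * (⟨(toFrame W).X x y t, X_mem W x y t⟩)⁻¹ := by
      apply Subtype.ext
      show (toFrame W).X x y (s - t) = (toFrame W).X x y s * ((toFrame W).X x y t)⁻¹
      rw [sub_eq_add_neg, (toFrame W).X_add, (toFrame W).X_neg]
    rw [h2, map_mul, map_inv]
    have h3 : toPOmega hG ⟨(toFrame W).X x y s, X_mem W x y s⟩ = toPOmega hG ⟨(toFrame W).X x y t, X_mem W x y t⟩ := hst
    rw [h3, mul_inv_cancel]
  exact sub_eq_zero.1 (eq_zero_of_X_center hG W h h1)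

/-- the orders of the simple root groups of type `D` -/
theorem card_XD (i : Fin (n + 2)) : Nat.card (XD W (toPOmega hG) (sr i)) = Nat.card F := by
  have hne : ((i, true) : Fin (n + 2) × Bool).1 ≠ (nx i).1 := ok_nx i
  have hrg : WittRGDD.rg (toFrame W) (sr i) = WittRoot.XG (toFrame W) (i, true) (nx i) := WittRGDD.rg_sr i
  symm
  refine Nat.card_congr (Equiv.ofBijective (fun t : F =>
    (⟨toPOmega hG ⟨(toFrame W).X (i, true) (nx i) t, X_mem W _ _ t⟩,
      Subgroup.mem_map_of_mem _ (Subgroup.mem_subgroupOf.2 (by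
        show (toFrame W).X (i, true) (nx i) t ∈ WittRGDD.rg (toFrame W) (sr i)
        rw [hrg]; exact ⟨t, rfl⟩))⟩ : XD W (toPOmega hG) (sr i))) ⟨?_, ?_⟩)
  · intro s t hst
    exact inj_X_center hG W hne (congrArg Subtype.val hst)
  · rintro ⟨k, hk⟩
    obtain ⟨g, hg, rfl⟩ := hk
    have hgr : g.1 ∈ WittRGDD.rg (toFrame W) (sr i) := Subgroup.mem_subgroupOf.1 hg
    rw [hrg] at hgr
    obtain ⟨t, ht⟩ := hgr
    refine ⟨t, Subtype.ext (congrArg (toPOmega hG) (Subtype.ext ht.symm))⟩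

end

/-- **`PΩ⁺_{2(n+3)}(F)`** -/
theorem pan_po_plus {F : Type*} [Field F] [Finite F] (n : ℕ) {p : ℕ} [Fact p.Prime] [CharP F p] :
    Cfsg.Agent.H50.Her.HasPan p (TypeD.M (n + 1)) (fun _ => Nat.card F) (Cfsg.POmega F (Cfsg.quadFormPlus (n + 3) F)) := by
  rw [← coe_plusForm]
  have hG : _root_.Cfsg.Agent.LieClassical.OrthTrans.Good (plusForm (n + 3) F) := by
    apply good_of_finite (nondeg_plusForm (n + 3) F)
    rw [Module.finrank_fintype_fun_eq_card, Fintype.card_sum, Fintype.card_fin]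
    omega
  have hA := amb_plus (F := F) (n + 3)
  refine ⟨TypeD.A (n + 1), TypeD.isCartan (n + 1), _, _, _,
    TypeD.finite_W (TypeD.M (n + 1)).toCoxeterSystem,
    rgdD_model (wplus (n + 3) F) hG (amb_plus _) (adm_plus _) _,
    G1D_eq_top (wplus (n + 3) F) (toPOmega hG) (toPOmega_surjective hG) (adm_plus _) _, ?_, ?_, ?_⟩
  · rintro _ ⟨s, hs, rfl⟩ _ ⟨t, ht, rfl⟩
    ((conv => enter [@2]; rw [← map_mul]); (conv => enter [@3]; rw [← map_mul]))
    congr 1
    refine Subtype.ext (Cfsg.Agent.H716.RGDAb.tor_comm_of (amb_plus (F := F) (n + 3)).V0 (Subgroup.mem_subgroupOf.1 hs)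
      (Subgroup.mem_subgroupOf.1 ht) fun w hw => ?_)
    have hw0 : w = 0 := (Submodule.mem_bot F).1 hw
    rw [hw0, map_zero, map_zero, map_zero]
  · intro i
    unfold XD
    ((conv => enter [@4]; rw [← Subgroup.map_sup]); (conv => enter [@4, @6]; rw [← Subgroup.subgroupOf_sup (rgD_le _ hA _) (rgD_le _ hA _)]))
    exact Subgroup.mem_map_of_mem _ (Subgroup.mem_subgroupOf.2 (WittRGDD.nn_mem_sup i))
  · intro i
    exact card_XD (wplus (n + 3) F) hG i

end Cfsg.Agent.H965.XZ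
end
end
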