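/-
Families of subgroups viewed inside the subgroup they generate (helper742, section 63).
-/
import Cfsg.Agent.H742.Transv
set_option linter.all false

set_option autoImplicit false
open Cfsg

namespace Cfsg.Agent.H742

open Cfsg.Agent.H731 Cfsg.Agent.H733

variable {G : Type*} [Group G]

theorem map_subtype_subgroupOf {A K : Subgroup G} (hA : A ≤ K) : (A.subgroupOf K).map K.subtype = A :=
  Subgroup.map_subgroupOf_eq_of_le hA

theorem subgroupOf_inj_iff {A B K : Subgroup G} (hA : A ≤ K) (hB : B ≤ K) :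
    A.subgroupOf K = B.subgroupOf K ↔ A = B := by
  constructor
  · intro h
    rw [← map_subtype_subgroupOf hA, ← map_subtype_subgroupOf hB, h]
  · rintro rfl
    rfl

theorem conjBy_subgroupOf (A : Subgroup G) {K : Subgroup G} (g : ↥K) :
    conjBy (A.subgroupOf K) g = (conjBy A (g : G)).subgroupOf K := by
  ext x
  rw [mem_conjBy, Subgroup.mem_subgroupOf, Subgroup.mem_subgroupOf, mem_conjBy]
  rfl

theorem commutator_subgroupOf {A B K : Subgroup G} (hA : A ≤ K) (hB : B ≤ K) :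
    ⁅A.subgroupOf K, B.subgroupOf K⁆ = (⁅A, B⁆).subgroupOf K := by
  apply Subgroup.map_injective K.subtype_injective
  rw [Subgroup.map_commutator, map_subtype_subgroupOf hA, map_subtype_subgroupOf hB,
    map_subtype_subgroupOf]
  rw [Subgroup.commutator_le]
  intro a ha b hb
  rw [commutatorElement_def]
  exact K.mul_mem (K.mul_mem (K.mul_mem (hA ha) (hB hb)) (K.inv_mem (hA ha))) (K.inv_mem (hB hb))

theorem sup_subgroupOf' {A B K : Subgroup G} (hA : A ≤ K) (hB : B ≤ K) :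
    A.subgroupOf K ⊔ B.subgroupOf K = (A ⊔ B).subgroupOf K := by
  apply Subgroup.map_injective K.subtype_injective
  rw [Subgroup.map_sup, map_subtype_subgroupOf hA, map_subtype_subgroupOf hB,
    map_subtype_subgroupOf (sup_le hA hB)]

theorem commutator_subgroupOf_eq_bot_iff {A B K : Subgroup G} (hA : A ≤ K) (hB : B ≤ K) :
    ⁅A.subgroupOf K, B.subgroupOf K⁆ = ⊥ ↔ ⁅A, B⁆ = ⊥ := by
  rw [commutator_eq_bot_iff_forall, commutator_eq_bot_iff_forall]
  constructor
  · intro h a ha b hb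
    exact congrArg Subtype.val (h ⟨a, hA ha⟩ ha ⟨b, hB hb⟩ hb)
  · intro h a ha b hb
    exact Subtype.ext (h a ha b hb)

theorem subgroupOf_comm {A K : Subgroup G} (h : IsMulCommutative ↥A) : IsMulCommutative ↥(A.subgroupOf K) := by
  refine ⟨⟨?_⟩⟩
  rintro ⟨⟨x, hxK⟩, hx⟩ ⟨⟨y, hyK⟩, hy⟩
  apply Subtype.ext
  apply Subtype.ext
  have h1 : (⟨x, hx⟩ : ↥A) * ⟨y, hy⟩ = ⟨y, hy⟩ * ⟨x, hx⟩ := h.is_comm.comm ⟨x, hx⟩ ⟨y, hy⟩
  have h2 : x * y = y * x := congrArg Subtype.val h1
  exact h2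

theorem subgroupOf_ne_bot {A K : Subgroup G} (hA : A ≤ K) (h : A ≠ ⊥) : A.subgroupOf K ≠ ⊥ := by
  intro h1
  apply h
  rw [← map_subtype_subgroupOf hA, h1, Subgroup.map_bot]

theorem le_gen {T : Set (Subgroup G)} {A : Subgroup G} (hA : A ∈ T) : A ≤ ⨆ B ∈ T, B :=
  le_iSup₂_of_le A hA le_rfl

theorem subgroupOf_generates (T : Set (Subgroup G)) :
    (⨆ A ∈ (fun A : Subgroup G => A.subgroupOf (⨆ B ∈ T, B)) '' T, A) = ⊤ := by
  set K := ⨆ B ∈ T, B with hK
  apply Subgroup.map_injective K.subtype_injective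
  rw [← MonoidHom.range_eq_map, Subgroup.range_subtype, Subgroup.map_iSup]
  apply le_antisymm
  · rw [iSup_le_iff]
    intro A
    rw [Subgroup.map_iSup, iSup_le_iff]
    rintro -
    exact Subgroup.map_subtype_le _
  · conv_lhs => rw [hK]
    rw [iSup₂_le_iff]
    intro A hA
    refine le_iSup_of_le (A.subgroupOf K) ?_
    rw [Subgroup.map_iSup]
    refine le_iSup_of_le ⟨A, hA, rfl⟩ ?_
    rw [map_subtype_subgroupOf (le_gen hA)]

theorem isPSL2PairOver_subgroupOf {k : Type*} [Field k] {A B K : Subgroup G} (hA : A ≤ K) (hB : B ≤ K)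
    (h : IsPSL2PairOver k A B) : IsPSL2PairOver k (A.subgroupOf K) (B.subgroupOf K) := by
  obtain ⟨φ, hr, hk, hu, hl⟩ := h
  have hφ : ∀ x, φ x ∈ K := by
    intro x
    have : φ x ∈ φ.range := ⟨x, rfl⟩
    rw [hr] at this
    exact (sup_le hA hB) this
  let ψ : Matrix.SpecialLinearGroup (Fin 2) k →* ↥K := φ.codRestrict K hφ
  have hcomp : K.subtype.comp ψ = φ := rfl
  refine ⟨ψ, ?_, ?_, ?_, ?_⟩
  · apply Subgroup.map_injective K.subtype_injective
    rw [Subgroup.map_sup, map_subtype_subgroupOf hA, map_subtype_subgroupOf hB, ← hr, ← hcomp]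
    exact (MonoidHom.range_comp _ _).symm
  · have : ψ.ker = φ.ker := by
      ext x
      rw [MonoidHom.mem_ker, MonoidHom.mem_ker]
      constructor
      · intro h
        exact congrArg Subtype.val h
      · intro h
        exact Subtype.ext h
    rw [this]
    exact hk
  · apply Subgroup.map_injective K.subtype_injective
    rw [map_subtype_subgroupOf hA, Subgroup.map_map, hcomp, hu]
  · apply Subgroup.map_injective K.subtype_injective
    rw [map_subtype_subgroupOf hB, Subgroup.map_map, hcomp, hl]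

theorem fAdj_subgroupOf {T : Set (Subgroup G)} {A B : Subgroup G} (h : FAdj T A B) :
    FAdj ((fun A : Subgroup G => A.subgroupOf (⨆ B ∈ T, B)) '' T)
      (A.subgroupOf (⨆ B ∈ T, B)) (B.subgroupOf (⨆ B ∈ T, B)) :=
  ⟨⟨A, h.1, rfl⟩, ⟨B, h.2.1, rfl⟩, (IsRankOnePair_subgroupOf_iff (le_gen h.1) (le_gen h.2.1)).2 h.2.2⟩

theorem reach_subgroupOf {T : Set (Subgroup G)} {A B : Subgroup G} (h : Relation.ReflTransGen (FAdj T) A B) :
    Relation.ReflTransGen (FAdj ((fun A : Subgroup G => A.subgroupOf (⨆ B ∈ T, B)) '' T))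
      (A.subgroupOf (⨆ B ∈ T, B)) (B.subgroupOf (⨆ B ∈ T, B)) := by
  induction h with
  | refl => exact Relation.ReflTransGen.refl
  | tail _ h2 ih => exact ih.tail (fAdj_subgroupOf h2)

/-- Criterion for a degenerate class of `k`-root subgroups, inside the subgroup it generates. -/
theorem degenerate_class_sub {k : Type*} [Field k] {T : Set (Subgroup G)} (hne : T.Nonempty)
    (hc : ∀ A ∈ T, IsMulCommutative A) (hb : ∀ A ∈ T, A ≠ ⊥)
    (hconj : ∀ A ∈ T, ∀ g : G, g ∈ ⨆ B ∈ T, B → conjBy A g ∈ T)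
    (hp : ∀ A ∈ T, ∀ B ∈ T, ⁅A, B⁆ = ⊥ ∨ IsPSL2PairOver k A B)
    (hcon : IsConnectedFamily (FAdj T) T) :
    IsRootSubgroupClass ((fun A : Subgroup G => A.subgroupOf (⨆ B ∈ T, B)) '' T) ∧
    IsDegenerateRootSet ((fun A : Subgroup G => A.subgroupOf (⨆ B ∈ T, B)) '' T) ∧
    IsKRootSubgroupSet k ((fun A : Subgroup G => A.subgroupOf (⨆ B ∈ T, B)) '' T) ∧
      IsConnectedFamily (FAdj ((fun A : Subgroup G => A.subgroupOf (⨆ B ∈ T, B)) '' T))
        ((fun A : Subgroup G => A.subgroupOf (⨆ B ∈ T, B)) '' T) := by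
  apply degenerate_class
  · exact hne.image _
  · rintro _ ⟨A, hA, rfl⟩
    exact subgroupOf_comm (hc A hA)
  · rintro _ ⟨A, hA, rfl⟩
    exact subgroupOf_ne_bot (le_gen hA) (hb A hA)
  · exact subgroupOf_generates T
  · rintro _ ⟨A, hA, rfl⟩ g
    exact ⟨conjBy A (g : G), hconj A hA g g.2, (conjBy_subgroupOf A g).symm⟩
  · rintro _ ⟨A, hA, rfl⟩ _ ⟨B, hB, rfl⟩
    rcases hp A hA B hB with h | h
    · exact Or.inl ((commutator_subgroupOf_eq_bot_iff (le_gen hA) (le_gen hB)).2 h)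
    · exact Or.inr (isPSL2PairOver_subgroupOf (le_gen hA) (le_gen hB) h)
  · rintro _ ⟨A, hA, rfl⟩ _ ⟨B, hB, rfl⟩
    exact reach_subgroupOf (hcon A hA B hB)

end Cfsg.Agent.H742
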