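/-
The interface `Core G` from T1, T2 of helper731 (helper742).
-/
import Cfsg.Agent.H742.RankOneQ
import Cfsg.Agent.H731.QuadT2
set_option linter.all false

set_option autoImplicit false
open Cfsg

namespace Cfsg.Agent.H742

open Cfsg.Agent.H740

variable {k : Type*} [Field k] {M : Type*} [AddCommGroup M] [Module k M] [FiniteDimensional k M]
variable {G : Subgroup (LinearMap.GeneralLinearGroup k M)}

theorem core (hk2 : ringChar k ≠ 2) (hk3 : Nat.card k ≠ 3) : Core G where
  t1 := fun hs hr hn => Cfsg.Agent.H731.T1 hk2 hs hr hn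
  t2 := by
    intro s r hs hr hn
    obtain ⟨r₁, r₀, t, hr10, h10, h01, hs0, h0s, h1, h0, ht, hk, hrg, hsts, htst⟩ :=
      Cfsg.Agent.H731.T2 hk2 hk3 hs hr.1 hn
    have hi : Inv s t := ⟨hs.sq, ht.sq, hsts, htst⟩
    have hsame : Same r₁ t := ⟨hk.symm, hrg.symm⟩
    -- `r₁ = r e`, so `range r₁ ≤ range r`
    have h0t : r₀ * t = 0 := by
      rw [mul_eq_zero_iff_range_le, hrg]
      exact range_le_ker_of_mul h01
    have hre : r * (s * t + t * s) = r₁ := by
      have e1 : r₀ * (s * t + t * s) = 0 := by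
        rw [mul_add, ← mul_assoc, ← mul_assoc, h0s, h0t, zero_mul, zero_mul, add_zero]
      have e2 := hi.symm.mul_e hsame
      rw [add_comm (t * s)] at e2
      rw [hr10, add_mul, e1, e2, add_zero]
    have hr1 : LinearMap.range r₁ ≤ LinearMap.range r := by
      rw [← hre]
      rintro _ ⟨m, rfl⟩
      exact ⟨_, rfl⟩
    have hr1' : LinearMap.range r₁ = LinearMap.range r := hr.range_eq h1.1 h1.ne_zero hr1
    have hr0 : LinearMap.range r₀ ≤ LinearMap.range r := by
      have : r₀ = r * (1 - (s * t + t * s)) := by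
        rw [mul_sub, mul_one, hre, hr10, add_sub_cancel_left]
      rw [this]
      rintro _ ⟨m, rfl⟩
      exact ⟨_, rfl⟩
    have hz : r₀ = 0 := by
      have h3 : LinearMap.range r₀ ≤ LinearMap.range t ⊓ LinearMap.ker s := by
        refine le_inf ?_ (range_le_ker_of_mul hs0)
        rw [hrg, hr1']
        exact hr0
      rw [hi.symm.inf_eq_bot, le_bot_iff, LinearMap.range_eq_bot] at h3
      exact h3
    have hrr : r = r₁ := by rw [hr10, hz, add_zero]
    refine ⟨t, ht, ?_, hsts, htst⟩
    rw [hrr]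
    exact hsame.symm

end Cfsg.Agent.H742
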