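import Cfsg.Agent.H307.FourOdd.Defs
import Cfsg.Agent.H979.LieSplit
import Cfsg.Agent.H979.SplitAut
import Mathlib.GroupTheory.SpecificGroups.Alternating
import Cfsg.Agent.H601.OddDeg.LabRow
import Cfsg.Agent.H612.ModA_m3
import Cfsg.Agent.H681.GmnTypes
import Cfsg.Agent.FastGrp
import Cfsg.Agent.Prune
set_option linter.all false

section
prune_inst 0x7f00000000000000000000000000000000000000000000000000000000000000000000000000000000000000000000000000000000000000000000000000000000000000000000000000000000000000003fffffffffffffffffffffffffffbeffbdffffffff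

-- part: H742/TwoC
section
set_option linter.all false
open scoped Cfsg.Agent.FastGrp

/-!
# `TwoC` for the alternating groups and the groups of Lie type in characteristic 2 (task 355, S4948)

* `twoC_of_comm` : a set `T` of pairwise commuting elements such that all elements commuting with `T` square to `1`;
* `twoC_alt` : `TwoC (alternatingGroup (Fin n))` for `5 ≤ n`;
* `twoC_charTwo` : `TwoC S` for a finite simple group of Lie type in characteristic 2.
-/

set_option autoImplicit false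

namespace Cfsg.Agent.H742.TwoC

open Cfsg Subgroup Cfsg.Agent.H601.OddDeg

/-- A set of pairwise commuting elements whose centralizer has exponent `2`. -/
theorem twoC_of_comm {S : Type*} [Group S] (T : Set S) (h1 : ∀ x ∈ T, ∀ y ∈ T, x * y = y * x)
    (h2 : ∀ g : S, (∀ x ∈ T, x * g = g * x) → g ^ 2 = 1) : TwoC S := by
  have h3 : IsPGroup 2 (centralizer T) := by
    intro g
    refine ⟨1, Subtype.ext ?_⟩
    have := h2 g (fun x hx => mem_centralizer_iff.1 g.2 x hx)
    simpa using this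
  refine ⟨centralizer T, h3, ?_⟩
  intro g
  refine ⟨1, Subtype.ext ?_⟩
  have := h2 g (fun x hx => mem_centralizer_iff.1 g.2 x (mem_centralizer_iff.2 fun y hy => h1 y hy x hx))
  simpa using this

section alt

variable {n : ℕ}

/-- The transposition of `2 * i` and `2 * i + 1`. -/
def tr (i : ℕ) (hi : 2 * i + 1 < n) : Equiv.Perm (Fin n) :=
  Equiv.swap ⟨2 * i, by omega⟩ ⟨2 * i + 1, hi⟩

theorem tr_apply (i : ℕ) (hi : 2 * i + 1 < n) (x : Fin n) : ((tr i hi) x : ℕ) =
    if (x : ℕ) = 2 * i then 2 * i + 1 else if (x : ℕ) = 2 * i + 1 then 2 * i else (x : ℕ) := by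
  unfold tr
  rw [Equiv.swap_apply_def]
  simp only [Fin.ext_iff]
  split_ifs <;> rfl

theorem tr_comm (i j : ℕ) (hi : 2 * i + 1 < n) (hj : 2 * j + 1 < n) : tr i hi * tr j hj = tr j hj * tr i hi := by
  ext x
  simp only [Equiv.Perm.mul_apply, tr_apply]
  split_ifs <;> omega

theorem sign_tr (i : ℕ) (hi : 2 * i + 1 < n) : Equiv.Perm.sign (tr i hi) = -1 := by
  unfold tr
  apply Equiv.Perm.sign_swap
  simp [Fin.ext_iff]

/-- The products of two of the transpositions. -/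
def tset (n : ℕ) : Set (alternatingGroup (Fin n)) :=
  {g | ∃ i j, ∃ (hi : 2 * i + 1 < n) (hj : 2 * j + 1 < n), i ≠ j ∧ (g : Equiv.Perm (Fin n)) = tr i hi * tr j hj}

theorem mem_tset {i j : ℕ} (hi : 2 * i + 1 < n) (hj : 2 * j + 1 < n) (hij : i ≠ j) :
    ∃ g ∈ tset n, (g : Equiv.Perm (Fin n)) = tr i hi * tr j hj := by
  refine ⟨⟨tr i hi * tr j hj, ?_⟩, ⟨i, j, hi, hj, hij, rfl⟩, rfl⟩
  rw [Equiv.Perm.mem_alternatingGroup, map_mul, sign_tr, sign_tr]
  simp

theorem half_of_ne {i j : ℕ} (hi : 2 * i + 1 < n) (hj : 2 * j + 1 < n) {y : Fin n}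
    (h : (tr i hi * tr j hj) y ≠ y) : (y : ℕ) / 2 = i ∨ (y : ℕ) / 2 = j := by
  by_contra hc
  apply h
  ext
  simp only [Equiv.Perm.mul_apply, tr_apply]
  split_ifs <;> omega

theorem ne_of_half {i j : ℕ} (hi : 2 * i + 1 < n) (hj : 2 * j + 1 < n) (hij : i ≠ j) {y : Fin n}
    (h : (y : ℕ) / 2 = i) : (tr i hi * tr j hj) y ≠ y := by
  intro hc
  have := congrArg Fin.val hc
  simp only [Equiv.Perm.mul_apply, tr_apply] at this
  split_ifs at this <;> omega

theorem half_two {g : Equiv.Perm (Fin n)} {i j : ℕ} (hi : 2 * i + 1 < n) (hj : 2 * j + 1 < n) (hij : i ≠ j)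
    (hg : tr i hi * tr j hj * g = g * (tr i hi * tr j hj)) {x : Fin n} (hx : (x : ℕ) / 2 = i) :
    ((g x : Fin n) : ℕ) / 2 = i ∨ ((g x : Fin n) : ℕ) / 2 = j := by
  apply half_of_ne hi hj
  have h1 : (tr i hi * tr j hj) (g x) = g ((tr i hi * tr j hj) x) := by
    rw [← Equiv.Perm.mul_apply, hg, Equiv.Perm.mul_apply]
  rw [h1]
  intro h2
  exact ne_of_half hi hj hij hx (g.injective h2)

theorem half_apply (hn : 6 ≤ n) {g : Equiv.Perm (Fin n)}
    (hg : ∀ i j (hi : 2 * i + 1 < n) (hj : 2 * j + 1 < n), i ≠ j →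
      tr i hi * tr j hj * g = g * (tr i hi * tr j hj)) {x : Fin n} {i : ℕ} (hi : 2 * i + 1 < n)
    (hx : (x : ℕ) / 2 = i) : ((g x : Fin n) : ℕ) / 2 = i := by
  obtain ⟨j, k, hj, hk, hij, hik, hjk⟩ : ∃ j k, 2 * j + 1 < n ∧ 2 * k + 1 < n ∧ i ≠ j ∧ i ≠ k ∧ j ≠ k := by
    by_cases h0 : i = 0
    · exact ⟨1, 2, by omega, by omega, by omega, by omega, by omega⟩
    · by_cases h1 : i = 1
      · exact ⟨0, 2, by omega, by omega, by omega, by omega, by omega⟩
      · exact ⟨0, 1, by omega, by omega, by omega, by omega, by omega⟩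
  have h1 := half_two hi hj hij (hg i j hi hj hij) hx
  have h2 := half_two hi hk hik (hg i k hi hk hik) hx
  omega

theorem half_apply_all (hn : 6 ≤ n) {g : Equiv.Perm (Fin n)}
    (hg : ∀ i j (hi : 2 * i + 1 < n) (hj : 2 * j + 1 < n), i ≠ j →
      tr i hi * tr j hj * g = g * (tr i hi * tr j hj)) (x : Fin n) : ((g x : Fin n) : ℕ) / 2 = (x : ℕ) / 2 := by
  have hx := x.2
  have hy := (g x).2
  by_cases h1 : 2 * ((x : ℕ) / 2) + 1 < n
  · exact half_apply hn hg h1 rfl
  · by_cases h2 : 2 * (((g x : Fin n) : ℕ) / 2) + 1 < n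
    · exfalso
      have hg' : ∀ i j (hi : 2 * i + 1 < n) (hj : 2 * j + 1 < n), i ≠ j →
          tr i hi * tr j hj * g⁻¹ = g⁻¹ * (tr i hi * tr j hj) := by
        intro i j hi hj hij
        have h3 : Commute (tr i hi * tr j hj) g := hg i j hi hj hij
        exact h3.inv_right.eq
      have h4 := half_apply hn hg' h2 (x := g x) rfl
      have h5 : g⁻¹ (g x) = x := by rw [← Equiv.Perm.mul_apply, inv_mul_cancel, Equiv.Perm.one_apply]
      rw [h5] at h4
      omega
    · omega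

theorem sq_eq_one (hn : 6 ≤ n) {g : Equiv.Perm (Fin n)}
    (hg : ∀ i j (hi : 2 * i + 1 < n) (hj : 2 * j + 1 < n), i ≠ j →
      tr i hi * tr j hj * g = g * (tr i hi * tr j hj)) : g * g = 1 := by
  ext x
  rw [Equiv.Perm.mul_apply, Equiv.Perm.one_apply]
  have h1 := half_apply_all hn hg x
  have h2 := half_apply_all hn hg (g x)
  by_cases h3 : g x = x
  · rw [h3, h3]
  · have h4 : g (g x) ≠ g x := fun h => h3 (g.injective h)
    have h5 : ((g x : Fin n) : ℕ) ≠ (x : ℕ) := fun h => h3 (Fin.ext h)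
    have h6 : ((g (g x) : Fin n) : ℕ) ≠ ((g x : Fin n) : ℕ) := fun h => h4 (Fin.ext h)
    omega

theorem twoC_alt_six (hn : 6 ≤ n) : TwoC (alternatingGroup (Fin n)) := by
  apply twoC_of_comm (tset n)
  · rintro x ⟨i, j, hi, hj, -, hx⟩ y ⟨k, l, hk, hl, -, hy⟩
    apply Subtype.ext
    rw [Subgroup.coe_mul, Subgroup.coe_mul, hx, hy]
    have c1 : Commute (tr i hi) (tr k hk) := tr_comm _ _ _ _
    have c2 : Commute (tr i hi) (tr l hl) := tr_comm _ _ _ _
    have c3 : Commute (tr j hj) (tr k hk) := tr_comm _ _ _ _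
    have c4 : Commute (tr j hj) (tr l hl) := tr_comm _ _ _ _
    exact ((c1.mul_right c2).mul_left (c3.mul_right c4)).eq
  · intro g hg
    apply Subtype.ext
    rw [pow_two, Subgroup.coe_mul, Subgroup.coe_one]
    apply sq_eq_one hn
    intro i j hi hj hij
    obtain ⟨x, hx, hx'⟩ := mem_tset hi hj hij
    have := congrArg Subtype.val (hg x hx)
    rw [Subgroup.coe_mul, Subgroup.coe_mul, hx'] at this
    exact this

/-- `(0 1)(2 3)` -/
def a5 : Equiv.Perm (Fin 5) := Equiv.swap 0 1 * Equiv.swap 2 3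
/-- `(0 2)(1 3)` -/
def b5 : Equiv.Perm (Fin 5) := Equiv.swap 0 2 * Equiv.swap 1 3

theorem perm5 : ∀ x : Equiv.Perm (Fin 5), a5 * x = x * a5 → b5 * x = x * b5 → x * x = 1 := by
  decide +kernel

theorem twoC_alt_five : TwoC (alternatingGroup (Fin 5)) := by
  have ha : a5 ∈ alternatingGroup (Fin 5) := by
    rw [Equiv.Perm.mem_alternatingGroup]; decide +kernel
  have hb : b5 ∈ alternatingGroup (Fin 5) := by
    rw [Equiv.Perm.mem_alternatingGroup]; decide +kernel
  have hab : a5 * b5 = b5 * a5 := by decide +kernel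
  apply twoC_of_comm {⟨a5, ha⟩, ⟨b5, hb⟩}
  · intro x hx y hy
    rw [Set.mem_insert_iff, Set.mem_singleton_iff] at hx hy
    apply Subtype.ext
    rcases hx with rfl | rfl <;> rcases hy with rfl | rfl <;> simp [hab]
  · intro g hg
    have h1 := congrArg Subtype.val (hg ⟨a5, ha⟩ (by simp))
    have h2 := congrArg Subtype.val (hg ⟨b5, hb⟩ (by simp))
    apply Subtype.ext
    rw [pow_two, Subgroup.coe_mul, Subgroup.coe_one]
    exact perm5 _ h1 h2

end alt

/-- The alternating groups satisfy `TwoC`. -/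
theorem twoC_alt {n : ℕ} (hn : 5 ≤ n) : TwoC (alternatingGroup (Fin n)) := by
  rcases Nat.lt_or_ge 5 n with h | h
  · exact twoC_alt_six h
  · obtain rfl : n = 5 := by omega
    exact twoC_alt_five

/-- The finite simple groups of Lie type in characteristic 2 satisfy `TwoC`. -/
theorem twoC_charTwo {S : Type*} [Group S] [Finite S] [IsSimpleGroup S] (h : IsLieTypeChar 2 S) : TwoC S := by
  have hp : Fact (Nat.Prime 2) := ⟨Nat.prime_two⟩
  have hs := H979.LieSplit.hasSplit_of_isLieTypeChar Nat.prime_two h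
  let D : Sylow 2 S := default
  refine TwoC.of_odd (D : Subgroup S) D.isPGroup' fun x hx hxD => ?_
  have h1 : MulAut.conj x = 1 := by
    refine H979.SplitAut.eq_one_of_hasSplit hs (MulAut.conj x) ?_ D ?_
    · intro h2
      have h3 : orderOf (MulAut.conj x) ∣ orderOf x := orderOf_map_dvd (MulAut.conj : S →* MulAut S) x
      exact (Nat.not_even_iff_odd.2 hx) (even_iff_two_dvd.2 (h2.trans h3))
    · intro d hd
      rw [MulAut.conj_apply, ← hxD d hd]
      group
  have hc : x ∈ center S := by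
    rw [mem_center_iff]
    intro g
    have h2 : x * g * x⁻¹ = g := by
      have := DFunLike.congr_fun h1 g
      simpa using this
    rw [mul_inv_eq_iff_eq_mul] at h2
    exact h2.symm
  by_contra hx1
  -- otherwise `S` is cyclic of odd order, but it contains a nontrivial `2`-element
  have hN : (zpowers x).Normal := by
    refine ⟨fun y hy g => ?_⟩
    have hy' : y ∈ center S := (zpowers_le.2 hc) hy
    rw [mem_center_iff.1 hy' g, mul_inv_cancel_right]
    exact hy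
  have htop : zpowers x = ⊤ := by
    rcases hN.eq_bot_or_eq_top with h2 | h2
    · exact absurd (zpowers_eq_bot.1 h2) hx1
    · exact h2
  have hcard : Nat.card S = orderOf x := by
    rw [← Nat.card_zpowers, htop, Nat.card_congr (Subgroup.topEquiv (G := S)).toEquiv]
  obtain ⟨P, U, ⟨s, hsS⟩, hS⟩ := hs
  obtain ⟨V, hV⟩ := hS.node s hsS
  obtain ⟨u, hu, huV⟩ := hV.ne
  have hu1 : u ≠ 1 := fun h2 => huV (h2 ▸ one_mem V)
  obtain ⟨k, hk⟩ := hS.isP ⟨u, hu⟩
  have hk' : u ^ 2 ^ k = 1 := by simpa using congrArg Subtype.val hk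
  have h4 : orderOf u ∣ 2 ^ k := orderOf_dvd_of_pow_eq_one hk'
  obtain ⟨m, -, hm⟩ := (Nat.dvd_prime_pow Nat.prime_two).1 h4
  have h5 : orderOf u ∣ Nat.card S := orderOf_dvd_natCard u
  rcases Nat.eq_zero_or_pos m with rfl | hm0
  · exact hu1 (orderOf_eq_one_iff.1 (by simpa using hm))
  · apply Nat.not_even_iff_odd.2 hx
    rw [even_iff_two_dvd, ← hcard]
    exact ((dvd_pow_self 2 hm0.ne').trans (hm ▸ dvd_refl _)).trans h5

end Cfsg.Agent.H742.TwoC

private theorem dce_a3651c8b8fef : _root_.True := by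
  try have : _root_.True := by simp only [_root_.Cfsg.Agent.H742.TwoC.tr.congr_simp]
  exact _root_.True.intro
end

-- part: H601/OddDeg/Rows
section
set_option linter.all false
open scoped Cfsg.Agent.FastGrp

/-!
# Three odd degree characters for the groups of type `A_n`, `B_n` (`n ≥ 3`), `F_4`, `E_6`, `E_7`, `E_8`
-/

set_option autoImplicit false
set_option linter.unusedSectionVars false

namespace Cfsg.Agent.H601.OddDeg.Rows

open Cfsg Cfsg.Agent.Omega.ML.Ex.Typ Cfsg.Agent.Tits.Core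
open Cfsg.Agent.LieRecognition.BNCox (cA)

universe u

/-- the general row -/
theorem of_hasRGDT {S : Type u} [Group S] [Finite S] [IsSimpleGroup S] {p : ℕ} (hp : p.Prime) (hp2 : p ≠ 2) {l : ℕ}
    (hl : 0 < l) {M : CoxeterMatrix (Fin l)} (h : HasRGDT p M S) (J : Set (Fin l)) (hJne : J.Nonempty)
    (hJ : ∀ σ : Equiv.Perm (Fin l), (∀ i j, M (σ i) (σ j) = M i j) → σ '' J = J ∧ ∃ k : ℕ, σ ^ 2 ^ k = 1)
    (hidx : ∀ {W : Type u} [Group W] [Finite W] (cs : CoxeterSystem M W), 2 ∣ (WJ cs J).index) : ThreeInv S := by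
  have := Fintype.ofFinite S
  obtain ⟨P, U, e, hs, hM⟩ := h.hasSplitT hp hl
  exact BN.three_of_split hs hp hp2 hM J hJne (fun σ hσ _ => hJ σ hσ) hidx

/-- the adjacency of a path -/
def Adj {n : ℕ} (a b : Fin n) : Prop := (a : ℕ) + 1 = b ∨ (b : ℕ) + 1 = a

theorem path_one {n : ℕ} {σ : Equiv.Perm (Fin n)} (hσ : ∀ a b : Fin n, Adj a b → Adj (σ a) (σ b))
    (h0 : ∀ i : Fin n, (i : ℕ) = 0 → (σ i : ℕ) = 0) : σ = 1 := by
  have key : ∀ k (hk : k < n), (σ ⟨k, hk⟩ : ℕ) = k := by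
    intro k
    induction k using Nat.strong_induction_on with
    | _ k ih =>
      intro hk
      match k, ih, hk with
      | 0, _, hk => exact h0 _ rfl
      | 1, ih, hk =>
        have h1 := ih 0 (by omega) (by omega)
        have h2 := hσ ⟨0, by omega⟩ ⟨1, hk⟩ (Or.inl rfl)
        unfold Adj at h2
        rw [h1] at h2
        omega
      | k + 2, ih, hk =>
        have h1 := ih (k + 1) (by omega) (by omega)
        have h3 := ih k (by omega) (by omega)
        have h2 := hσ ⟨k + 1, by omega⟩ ⟨k + 2, hk⟩ (Or.inl rfl)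
        unfold Adj at h2
        rw [h1] at h2
        rcases h2 with h2 | h2
        · omega
        · exfalso
          have h4 : (σ ⟨k + 2, hk⟩ : ℕ) = σ ⟨k, by omega⟩ := by omega
          have h5 := congrArg Fin.val (σ.injective (Fin.ext h4))
          simp at h5
  ext i
  exact key i i.2

theorem sq_one {I : Type*} (σ : Equiv.Perm I) (ι : I → I) (hι : ∀ i, ι (ι i) = i)
    (h : ∀ i, σ i = i ∨ σ i = ι i) : σ ^ 2 ^ 1 = 1 := by
  rw [pow_one]
  ext i
  rw [pow_two, Equiv.Perm.mul_apply, Equiv.Perm.one_apply]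
  rcases h i with h1 | h1
  · rw [h1, h1]
  · rw [h1]
    rcases h (ι i) with h2 | h2
    · have h3 : σ i = σ (ι i) := by rw [h1, h2]
      have h4 := σ.injective h3
      rw [h2, ← h4]
    · rw [h2, hι]

theorem adj_A {n : ℕ} {a b : Fin n} : cA n a b = 3 ↔ Adj a b := by
  rw [LieRecognition.BNCox.cA_apply]
  unfold LieRecognition.CoxClass.mA Adj
  split_ifs <;> omega

theorem sq_A {n : ℕ} (hn : 3 ≤ n) (σ : Equiv.Perm (Fin n)) (hσ : ∀ i j, cA n (σ i) (σ j) = cA n i j) :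
    ∃ k : ℕ, σ ^ 2 ^ k = 1 := by
  have hadj : ∀ a b : Fin n, Adj a b → Adj (σ a) (σ b) := by
    intro a b hab
    rw [← adj_A, hσ, adj_A]
    exact hab
  have hend : ∀ i : Fin n, (i : ℕ) = 0 → (σ i : ℕ) = 0 ∨ (σ i : ℕ) = n - 1 := by
    intro i hi
    by_contra hcon
    have h1 : σ i ∈ {i : Fin n | ¬ ((i : ℕ) = 0 ∨ (i : ℕ) = n - 1)} := hcon
    rw [← H612.Sym.sym_A σ hσ] at h1
    obtain ⟨j, hj, hji⟩ := h1
    rw [σ.injective hji] at hj
    exact hj (Or.inl hi)
  rcases hend ⟨0, by omega⟩ rfl with h1 | h1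
  · refine ⟨0, ?_⟩
    rw [pow_zero, pow_one]
    refine path_one hadj fun i hi => ?_
    have : i = ⟨0, by omega⟩ := Fin.ext hi
    rw [this]
    exact h1
  · have h2 : Fin.revPerm * σ = 1 := by
      refine path_one (fun a b hab => ?_) fun i hi => ?_
      · have h3 := hadj a b hab
        have h4 := (σ a).2
        have h5 := (σ b).2
        change Adj (Fin.rev (σ a)) (Fin.rev (σ b))
        unfold Adj at h3 ⊢
        rw [Fin.val_rev, Fin.val_rev]
        omega
      · have : i = ⟨0, by omega⟩ := Fin.ext hi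
        rw [this]
        change (Fin.rev (σ ⟨0, _⟩) : ℕ) = 0
        rw [Fin.val_rev]
        omega
    refine ⟨1, sq_one σ Fin.rev Fin.rev_rev fun i => Or.inr ?_⟩
    have h3 := congrArg (fun f : Equiv.Perm (Fin n) => f i) h2
    change Fin.rev (σ i) = i at h3
    have h4 := congrArg Fin.rev h3
    rwa [Fin.rev_rev] at h4

section

variable {S : Type u} [Group S] [Finite S] [IsSimpleGroup S] {p : ℕ}

theorem three_A (hp : p.Prime) (hp2 : p ≠ 2) {n : ℕ} (hn : 3 ≤ n) (h : HasRGDT p (cA n) S) : ThreeInv S := by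
  refine of_hasRGDT hp hp2 (by omega) h {i | ¬ ((i : ℕ) = 0 ∨ (i : ℕ) = n - 1)} ⟨⟨1, by omega⟩, ?_⟩
    (fun σ hσ => ⟨H612.Sym.sym_A σ hσ, sq_A hn σ hσ⟩) ?_
  · simp
    omega
  · intro W _ _ cs
    have h1 := (H612.ModA.model (n := n) (by omega)).card_quotient cs (Nodes.RootsA.isCartan n) (by
      intro i
      rw [H612.ModA.l_apply hn]
      split_ifs <;> norm_num)
    have h2 : {i : Fin n | H612.ModA.l n (by omega) i = 0} = {i : Fin n | ¬ ((i : ℕ) = 0 ∨ (i : ℕ) = n - 1)} := by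
      ext i
      show H612.ModA.l n _ i = 0 ↔ _
      rw [H612.ModA.l_apply hn]
      by_cases h1 : (i : ℕ) = 0 ∨ (i : ℕ) = n - 1
      · rw [if_pos h1]
        exact ⟨fun h => absurd h (by norm_num), fun h => absurd h1 h⟩
      · rw [if_neg h1]
        exact ⟨fun _ => h1, fun _ => rfl⟩
    rw [← h2, h1]
    exact (H612.ModA.even_card n).two_dvd

theorem three_B (hp : p.Prime) (hp2 : p ≠ 2) {n : ℕ} (hn : 3 ≤ n) (h : HasRGDT p (CoxeterMatrix.B n) S) :
    ThreeInv S := by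
  refine of_hasRGDT hp hp2 (by omega) h {i | (i : ℕ) ≠ 0} ⟨⟨1, by omega⟩, ?_⟩
    (fun σ hσ => ⟨H612.Sym.sym_B hn σ hσ, 0, ?_⟩) ?_
  · simp
  · rw [pow_zero, pow_one]
    have hB : ∀ a b : Fin n, Adj a b ↔ (a : ℕ) ≠ b ∧ CoxeterMatrix.B n a b ≠ 2 := by
      intro a b
      rw [Ne, Ne, H612.Sym.B_eq_two]
      unfold Adj
      omega
    refine path_one (fun a b hab => ?_) fun i hi => ?_
    · rw [hB] at hab ⊢
      refine ⟨fun h => hab.1 (congrArg Fin.val (σ.injective (Fin.ext h))), ?_⟩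
      rw [hσ]
      exact hab.2
    · by_contra hcon
      have h1 : σ i ∈ {i : Fin n | (i : ℕ) ≠ 0} := hcon
      rw [← H612.Sym.sym_B hn σ hσ] at h1
      obtain ⟨j, hj, hji⟩ := h1
      rw [σ.injective hji] at hj
      exact hj hi
  · intro W _ _ cs
    have h1 := (H612.ModB.model (n := n) (by omega)).card_quotient cs (Nodes.TypeC.isCartan n) (by
      intro i
      rw [H612.ModB.l_apply (by omega)]
      split_ifs <;> norm_num)
    have h2 : {i : Fin n | H612.ModB.l n (by omega) i = 0} = {i : Fin n | (i : ℕ) ≠ 0} := by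
      ext i
      show H612.ModB.l n _ i = 0 ↔ (i : ℕ) ≠ 0
      rw [H612.ModB.l_apply (by omega)]
      split_ifs <;> simp_all
    rw [← h2, h1, Nat.card_prod, Nat.card_eq_fintype_card (α := Bool), Fintype.card_bool]
    exact ⟨_, mul_comm _ _⟩

theorem three_F4 (hp : p.Prime) (hp2 : p ≠ 2) (h : HasRGDT p CoxeterMatrix.F₄ S) : ThreeInv S := by
  refine of_hasRGDT hp hp2 (by omega) h {0, 3} ⟨0, Or.inl rfl⟩ (fun σ hσ => ?_) ?_
  · have h1 : ∀ i, ![1, 2, 2, 1] (σ i) = ![1, 2, 2, 1] i :=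
      H681.GmnTypes.inv_step hσ (g := fun _ => 1) (fun _ => rfl) (by decide)
    refine ⟨?_, 1, sq_one σ Fin.rev Fin.rev_rev ?_⟩
    · apply H612.Sym.image_eq
      have h2 : ∀ i ∈ ({0, 3} : Set (Fin 4)), ![1, 2, 2, 1] i = 1 := by
        rintro i (rfl | rfl) <;> rfl
      have h3 : ∀ a : Fin 4, ![1, 2, 2, 1] a = 1 → a = 0 ∨ a = 3 := by decide
      intro i hi
      exact h3 _ (by rw [h1, h2 i hi])
    · have h2 : ∀ a b : Fin 4, ![1, 2, 2, 1] a = ![1, 2, 2, 1] b → a = b ∨ a = Fin.rev b := by decide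
      intro i
      exact h2 _ _ (h1 i)
  · intro W _ _ cs
    exact Idx.index_pair cs (by decide) (by decide) (k := 1) (l := 2) (by decide) (by decide)

theorem three_E6 (hp : p.Prime) (hp2 : p ≠ 2) (h : HasRGDT p CoxeterMatrix.E₆ S) : ThreeInv S := by
  refine of_hasRGDT hp hp2 (by omega) h {3} ⟨3, rfl⟩ (fun σ hσ => ?_) ?_
  · have h1 : ∀ i, ![1, 1, 2, 3, 2, 1] (σ i) = ![1, 1, 2, 3, 2, 1] i :=
      H681.GmnTypes.inv_step hσ (g := fun _ => 1) (fun _ => rfl) (by decide)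
    have h2 : ∀ i, ![2, 3, 4, 5, 4, 2] (σ i) = ![2, 3, 4, 5, 4, 2] i :=
      H681.GmnTypes.inv_step hσ h1 (by decide)
    have h3 : ∀ a b : Fin 6, ![2, 3, 4, 5, 4, 2] a = ![2, 3, 4, 5, 4, 2] b → a = b ∨ a = ![5, 1, 4, 3, 2, 0] b := by
      decide
    refine ⟨?_, 1, sq_one σ ![5, 1, 4, 3, 2, 0] (by decide) fun i => h3 _ _ (h2 i)⟩
    rw [Set.image_singleton]
    rcases h3 _ _ (h2 3) with h4 | h4
    · rw [h4]
    · rw [h4]
      rfl
  · intro W _ _ cs
    exact Idx.index_single cs 3 (j := 0) (k := 1) (by decide) (by decide)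

theorem three_E7 (hp : p.Prime) (hp2 : p ≠ 2) (h : HasRGDT p CoxeterMatrix.E₇ S) : ThreeInv S := by
  refine of_hasRGDT hp hp2 (by omega) h {3} ⟨3, rfl⟩ (fun σ hσ => ?_) ?_
  · have h1 : ∀ i, ![1, 1, 2, 3, 2, 2, 1] (σ i) = ![1, 1, 2, 3, 2, 2, 1] i :=
      H681.GmnTypes.inv_step hσ (g := fun _ => 1) (fun _ => rfl) (by decide)
    have h2 : ∀ i, ![2, 3, 4, 5, 5, 3, 2] (σ i) = ![2, 3, 4, 5, 5, 3, 2] i :=
      H681.GmnTypes.inv_step hσ h1 (by decide)
    have h3 : ∀ i, ![4, 5, 7, 12, 8, 7, 3] (σ i) = ![4, 5, 7, 12, 8, 7, 3] i :=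
      H681.GmnTypes.inv_step hσ h2 (by decide)
    have h4 : ∀ a b : Fin 7, ![2, 3, 4, 5, 5, 3, 2] a = ![2, 3, 4, 5, 5, 3, 2] b →
      ![4, 5, 7, 12, 8, 7, 3] a = ![4, 5, 7, 12, 8, 7, 3] b → a = b := by decide
    have h5 : ∀ i, σ i = i := fun i => h4 _ _ (h2 i) (h3 i)
    refine ⟨?_, 0, ?_⟩
    · rw [Set.image_singleton, h5]
    · rw [pow_zero, pow_one]
      exact Equiv.ext h5
  · intro W _ _ cs
    exact Idx.index_single cs 3 (j := 0) (k := 1) (by decide) (by decide)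

theorem three_E8 (hp : p.Prime) (hp2 : p ≠ 2) (h : HasRGDT p CoxeterMatrix.E₈ S) : ThreeInv S := by
  refine of_hasRGDT hp hp2 (by omega) h {3} ⟨3, rfl⟩ (fun σ hσ => ?_) ?_
  · have h1 : ∀ i, ![1, 1, 2, 3, 2, 2, 2, 1] (σ i) = ![1, 1, 2, 3, 2, 2, 2, 1] i :=
      H681.GmnTypes.inv_step hσ (g := fun _ => 1) (fun _ => rfl) (by decide)
    have h2 : ∀ i, ![2, 3, 4, 5, 5, 4, 3, 2] (σ i) = ![2, 3, 4, 5, 5, 4, 3, 2] i :=
      H681.GmnTypes.inv_step hσ h1 (by decide)
    have h3 : ∀ i, ![4, 5, 7, 12, 9, 8, 6, 3] (σ i) = ![4, 5, 7, 12, 9, 8, 6, 3] i :=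
      H681.GmnTypes.inv_step hσ h2 (by decide)
    have h4 : ∀ a b : Fin 8, ![2, 3, 4, 5, 5, 4, 3, 2] a = ![2, 3, 4, 5, 5, 4, 3, 2] b →
      ![4, 5, 7, 12, 9, 8, 6, 3] a = ![4, 5, 7, 12, 9, 8, 6, 3] b → a = b := by decide
    have h5 : ∀ i, σ i = i := fun i => h4 _ _ (h2 i) (h3 i)
    refine ⟨?_, 0, ?_⟩
    · rw [Set.image_singleton, h5]
    · rw [pow_zero, pow_one]
      exact Equiv.ext h5
  · intro W _ _ cs
    exact Idx.index_single cs 3 (j := 0) (k := 1) (by decide) (by decide)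

end

end Cfsg.Agent.H601.OddDeg.Rows
end
end
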