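/-
Existence of opposite root groups; unipotent normal subgroups are trivial; conclusions for quadratic pairs
(S5066, S5068, S5073) (helper742).
-/
import Cfsg.Agent.H742.RankOneQ
import Cfsg.Agent.H740.BaerSuzuki
set_option linter.all false

-- part: H742/UnipPair
section
set_option autoImplicit false
open Cfsg

namespace Cfsg.Agent.H742

open Cfsg.Agent.H740 Cfsg.Agent.H731

variable {k : Type*} [Field k] {M : Type*} [AddCommGroup M] [Module k M]
variable {G : Subgroup (LinearMap.GeneralLinearGroup k M)}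

/-! ### The commutator of a unipotent pair -/

/-- `(s, t)` is a unipotent pair of square zero endomorphisms. -/
structure UP (s t : M →ₗ[k] M) : Prop where
  ss : s * s = 0
  tt : t * t = 0
  sts : s * t * s = 0
  tst : t * s * t = 0

theorem UP.symm {s t : M →ₗ[k] M} (h : UP s t) : UP t s := ⟨h.tt, h.ss, h.tst, h.sts⟩

theorem UP.smul_left {s t : M →ₗ[k] M} (h : UP s t) (c : k) : UP (c • s) t := by
  refine ⟨smul_sq h.ss c, h.tt, ?_, ?_⟩
  · rw [smul_mul_assoc, smul_mul_assoc, mul_smul_comm, h.sts, smul_zero, smul_zero]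
  · rw [mul_smul_comm, smul_mul_assoc, h.tst, smul_zero]

theorem UP.l_sq {s t : M →ₗ[k] M} (h : UP s t) : (s * t - t * s) * (s * t - t * s) = 0 := by
  have e : (s * t - t * s) * (s * t - t * s) = (s * t * s) * t - s * (t * t) * s - t * (s * s) * t + (t * s * t) * s := by
    noncomm_ring
  rw [e, h.sts, h.tt, h.ss, h.tst]
  simp

theorem UP.coe_comm {s t : M →ₗ[k] M} (h : UP s t) :
    ((oneAdd s h.ss * oneAdd t h.tt * (oneAdd s h.ss)⁻¹ * (oneAdd t h.tt)⁻¹ :
      LinearMap.GeneralLinearGroup k M) : M →ₗ[k] M) = 1 + (s * t - t * s) := by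
  simp only [Units.val_mul, coe_oneAdd, coe_oneAdd_inv]
  have e : (1 + s) * (1 + t) * (1 - s) * (1 - t) = 1 + (s * t - t * s) - s * s + (s * s) * t + t * s * t - (t * t)
      - (s * t * s) - s * (t * t) + (s * t * s) * t := by noncomm_ring
  rw [e, h.sts, h.tt, h.ss, h.tst]
  simp

theorem UP.qIn {s t : M →ₗ[k] M} (h : UP s t) (hs : QIn G s) (ht : QIn G t) : QIn G (s * t - t * s) := by
  refine ⟨h.l_sq, fun c => ?_⟩
  have h' := h.smul_left c
  refine ⟨oneAdd (c • s) h'.ss * oneAdd t h'.tt * (oneAdd (c • s) h'.ss)⁻¹ * (oneAdd t h'.tt)⁻¹, ?_, ?_⟩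
  · have h1 : oneAdd (c • s) h'.ss ∈ G := hs.mem c
    have h2 : oneAdd t h'.tt ∈ G := ht.mem_one
    exact G.mul_mem (G.mul_mem (G.mul_mem h1 h2) (G.inv_mem h1)) (G.inv_mem h2)
  · rw [h'.coe_comm, smul_mul_assoc, mul_smul_comm, ← smul_sub]

/-- conjugate of `s` by `1 + t` -/
theorem UP.conj {s t : M →ₗ[k] M} (h : UP s t) :
    (oneAdd t h.tt : M →ₗ[k] M) * s * ((oneAdd t h.tt)⁻¹ : LinearMap.GeneralLinearGroup k M) =
      s - (s * t - t * s) := by
  rw [coe_oneAdd, coe_oneAdd_inv]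
  have e : (1 + t) * s * (1 - t) = s - (s * t - t * s) - t * s * t := by noncomm_ring
  rw [e, h.tst, sub_zero]

theorem UP.l_mul_s {s t s' : M →ₗ[k] M} (h : UP s t) (hs : Same s s') : (s * t - t * s) * s' = 0 := by
  rw [sub_mul, same_sts (Same.refl s) hs h.sts, mul_assoc, same_mul_eq_zero (Same.refl s) hs h.ss, mul_zero, sub_zero]

theorem UP.s_mul_l {s t s' : M →ₗ[k] M} (h : UP s t) (hs : Same s s') : s' * (s * t - t * s) = 0 := by
  rw [mul_sub, ← mul_assoc, ← mul_assoc, same_sts hs (Same.refl s) h.sts, same_mul_eq_zero hs (Same.refl s) h.ss,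
    zero_mul, sub_zero]

theorem UP.l_mul_t {s t t' : M →ₗ[k] M} (h : UP s t) (ht : Same t t') : (s * t - t * s) * t' = 0 := by
  rw [sub_mul, same_sts (Same.refl t) ht h.tst, mul_assoc, same_mul_eq_zero (Same.refl t) ht h.tt, mul_zero, sub_zero]

theorem UP.t_mul_l {s t t' : M →ₗ[k] M} (h : UP s t) (ht : Same t t') : t' * (s * t - t * s) = 0 := by
  rw [mul_sub, ← mul_assoc, ← mul_assoc, same_sts ht (Same.refl t) h.tst, same_mul_eq_zero ht (Same.refl t) h.tt,
    zero_mul, sub_zero]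

/-! ### Rank computations -/

section rank

variable [FiniteDimensional k M]

theorem finrank_map_add_inf_ker (f : M →ₗ[k] M) (W : Submodule k M) :
    Module.finrank k (W.map f) + Module.finrank k (W ⊓ LinearMap.ker f : Submodule k M) = Module.finrank k W := by
  have h1 := LinearMap.finrank_range_add_finrank_ker (f.domRestrict W)
  have h2 : LinearMap.range (f.domRestrict W) = W.map f := by
    ext x
    simp only [LinearMap.mem_range, Submodule.mem_map]
    constructor
    · rintro ⟨y, rfl⟩; exact ⟨y, y.2, rfl⟩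
    · rintro ⟨y, hy, rfl⟩; exact ⟨⟨y, hy⟩, rfl⟩
  have h3 : (LinearMap.ker (f.domRestrict W)).map W.subtype = W ⊓ LinearMap.ker f := by
    ext x
    simp only [Submodule.mem_map, LinearMap.mem_ker, Submodule.mem_inf]
    constructor
    · rintro ⟨y, hy, rfl⟩; exact ⟨y.2, hy⟩
    · rintro ⟨hx, hx'⟩; exact ⟨⟨x, hx⟩, hx', rfl⟩
  have h4 : Module.finrank k (W ⊓ LinearMap.ker f : Submodule k M) = Module.finrank k (LinearMap.ker (f.domRestrict W)) := by
    rw [← h3]
    exact Submodule.finrank_map_subtype_eq _ _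
  rw [h4, ← h2]
  exact h1

omit [FiniteDimensional k M] in
theorem finrank_map_inj {V W : Type*} [AddCommGroup V] [Module k V] [AddCommGroup W] [Module k W]
    (f : V →ₗ[k] W) (hf : Function.Injective f) (U : Submodule k V) :
    Module.finrank k (U.map f) = Module.finrank k U :=
  (LinearEquiv.finrank_eq (Submodule.equivMapOfInjective f hf U)).symm

omit [FiniteDimensional k M] in
theorem range_mul (f g : M →ₗ[k] M) : LinearMap.range (f * g) = (LinearMap.range g).map f :=
  LinearMap.range_comp g f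

theorem finrank_inf_add (V W : Submodule k M) :
    Module.finrank k V + Module.finrank k W ≤ Module.finrank k (V ⊓ W : Submodule k M) + Module.finrank k M := by
  have h1 := Submodule.finrank_sup_add_finrank_inf_eq V W
  have h2 := Submodule.finrank_le (V ⊔ W)
  omega

/-- **Structure of the commutator of a unipotent pair of minimal vectors.** -/
theorem UP.l_spec {s t : M →ₗ[k] M} (h : UP s t) (hs : IsMin G s) (ht : IsMin G t) (hl : s * t - t * s ≠ 0) :
    IsMin G (s * t - t * s) ∧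
    LinearMap.range (s * t - t * s) =
      (LinearMap.range s ⊓ LinearMap.ker t) ⊔ (LinearMap.range t ⊓ LinearMap.ker s) ∧
    LinearMap.ker (s * t - t * s) =
      (LinearMap.range s ⊔ LinearMap.ker t) ⊓ (LinearMap.range t ⊔ LinearMap.ker s) ∧
    Disjoint (LinearMap.range s ⊓ LinearMap.ker t) (LinearMap.range t ⊓ LinearMap.ker s) ∧
    Module.finrank k (LinearMap.range s ⊓ LinearMap.ker t : Submodule k M) +
      Module.finrank k (LinearMap.range t ⊓ LinearMap.ker s : Submodule k M) =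
        Module.finrank k (LinearMap.range s) := by
  set X := LinearMap.range s ⊓ LinearMap.ker t with hX
  set X' := LinearMap.range t ⊓ LinearMap.ker s with hX'
  set l := s * t - t * s with hldef
  have hd : Module.finrank k (LinearMap.range s) = Module.finrank k (LinearMap.range t) := hs.finrank_eq ht
  have hq : QIn G l := h.qIn hs.1 ht.1
  have h1 : (LinearMap.range s).map t ≤ X' := by
    rintro _ ⟨_, ⟨y, rfl⟩, rfl⟩
    refine ⟨⟨s y, rfl⟩, ?_⟩
    have := congrArg (fun f : M →ₗ[k] M => f y) h.sts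
    exact this
  have h2 : (LinearMap.range t).map s ≤ X := by
    rintro _ ⟨_, ⟨y, rfl⟩, rfl⟩
    refine ⟨⟨t y, rfl⟩, ?_⟩
    have := congrArg (fun f : M →ₗ[k] M => f y) h.tst
    exact this
  have h3 := finrank_map_add_inf_ker t (LinearMap.range s)
  have h4 := finrank_map_add_inf_ker s (LinearMap.range t)
  have h5 := Submodule.finrank_mono h1
  have h6 := Submodule.finrank_mono h2
  have hrange : LinearMap.range l ≤ X ⊔ X' := by
    rintro _ ⟨y, rfl⟩
    rw [hldef, LinearMap.sub_apply]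
    exact sub_mem (Submodule.mem_sup_left (h2 ⟨t y, ⟨y, rfl⟩, rfl⟩))
      (Submodule.mem_sup_right (h1 ⟨s y, ⟨y, rfl⟩, rfl⟩))
  have hrange' : LinearMap.range l ≤ (LinearMap.range t).map s ⊔ (LinearMap.range s).map t := by
    rintro _ ⟨y, rfl⟩
    rw [hldef, LinearMap.sub_apply]
    exact sub_mem (Submodule.mem_sup_left ⟨t y, ⟨y, rfl⟩, rfl⟩) (Submodule.mem_sup_right ⟨s y, ⟨y, rfl⟩, rfl⟩)
  have h7 : Module.finrank k (LinearMap.range l) ≤
      Module.finrank k ((LinearMap.range t).map s) + Module.finrank k ((LinearMap.range s).map t) :=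
    (Submodule.finrank_mono hrange').trans (Submodule.finrank_add_le_finrank_add_finrank _ _)
  have h8 : Module.finrank k (LinearMap.range s) ≤ Module.finrank k (LinearMap.range l) := hs.le hq hl
  have hXX' : Module.finrank k X + Module.finrank k X' = Module.finrank k (LinearMap.range s) := by
    rw [← hX] at h3
    rw [← hX'] at h4
    omega
  have h9 : Module.finrank k (X ⊔ X' : Submodule k M) ≤ Module.finrank k X + Module.finrank k X' :=
    Submodule.finrank_add_le_finrank_add_finrank _ _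
  have hr : LinearMap.range l = X ⊔ X' := by
    apply Submodule.eq_of_le_of_finrank_le hrange
    omega
  have hmin : IsMin G l := by
    refine hs.of_finrank_le hq hl ?_
    rw [hr]
    omega
  refine ⟨hmin, hr, ?_, ?_, hXX'⟩
  · -- kernel
    symm
    apply Submodule.eq_of_le_of_finrank_le
    · rintro v ⟨hv1, hv2⟩
      obtain ⟨u, ⟨a, rfl⟩, u', hu', huv⟩ := Submodule.mem_sup.1 hv1
      obtain ⟨w, ⟨b, rfl⟩, w', hw', hwv⟩ := Submodule.mem_sup.1 hv2
      have e1 : s (t v) = 0 := by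
        rw [← huv, map_add, LinearMap.mem_ker.1 hu', add_zero]
        exact congrArg (fun f : M →ₗ[k] M => f a) h.sts
      have e2 : t (s v) = 0 := by
        rw [← hwv, map_add, LinearMap.mem_ker.1 hw', add_zero]
        exact congrArg (fun f : M →ₗ[k] M => f b) h.tst
      rw [LinearMap.mem_ker, hldef, LinearMap.sub_apply, Module.End.mul_apply, Module.End.mul_apply, e1, e2,
        sub_zero]
    · have k1 := LinearMap.finrank_range_add_finrank_ker l
      have k2 := LinearMap.finrank_range_add_finrank_ker s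
      have k3 := LinearMap.finrank_range_add_finrank_ker t
      have k4 := Submodule.finrank_sup_add_finrank_inf_eq (LinearMap.range s) (LinearMap.ker t)
      have k5 := Submodule.finrank_sup_add_finrank_inf_eq (LinearMap.range t) (LinearMap.ker s)
      have k6 := finrank_inf_add (LinearMap.range s ⊔ LinearMap.ker t) (LinearMap.range t ⊔ LinearMap.ker s)
      rw [← hX] at k4
      rw [← hX'] at k5
      omega
  · rw [disjoint_iff]
    have k1 := Submodule.finrank_sup_add_finrank_inf_eq X X'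
    rw [← hr] at k1
    have k2 : Module.finrank k (X ⊓ X' : Submodule k M) = 0 := by omega
    exact Submodule.finrank_eq_zero.1 k2

/-- If one commutator of a unipotent pair is non-trivial then all are. -/
theorem UP.l_ne_zero {s t s' t' : M →ₗ[k] M} (h : UP s t) (hs : IsMin G s) (ht : IsMin G t)
    (hl : s * t - t * s ≠ 0) (h' : UP s' t') (hs' : Same s' s) (ht' : Same t' t) : s' * t' - t' * s' ≠ 0 := by
  obtain ⟨-, -, -, hdis, hsum⟩ := h.l_spec hs ht hl
  intro h0
  have h0' : s' * t' = t' * s' := sub_eq_zero.1 h0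
  have h1 : LinearMap.range (s' * t') ≤ LinearMap.range s ⊓ LinearMap.ker t := by
    rw [← hs'.2, ← ht'.1]
    rintro _ ⟨y, rfl⟩
    refine ⟨⟨t' y, rfl⟩, ?_⟩
    exact congrArg (fun f : M →ₗ[k] M => f y) h'.tst
  have h2 : LinearMap.range (s' * t') ≤ LinearMap.range t ⊓ LinearMap.ker s := by
    rw [h0', ← hs'.1, ← ht'.2]
    rintro _ ⟨y, rfl⟩
    refine ⟨⟨s' y, rfl⟩, ?_⟩
    exact congrArg (fun f : M →ₗ[k] M => f y) h'.sts
  have h3 : s' * t' = 0 := by
    rw [← LinearMap.range_eq_bot, eq_bot_iff]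
    exact (le_inf h1 h2).trans (disjoint_iff.1 hdis).le
  have h4 : t' * s' = 0 := by rw [← h0', h3]
  have h5 : LinearMap.range t ⊓ LinearMap.ker s = LinearMap.range t := by
    rw [inf_eq_left, ← hs'.1, ← ht'.2]
    exact range_le_ker_of_mul h3
  have h6 : LinearMap.range s ⊓ LinearMap.ker t = LinearMap.range s := by
    rw [inf_eq_left, ← hs'.2, ← ht'.1]
    exact range_le_ker_of_mul h4
  rw [h5, h6, hs.finrank_eq ht] at hsum
  have h7 : Module.finrank k (LinearMap.range t) = 0 := by omega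
  exact ht.ne_zero (LinearMap.range_eq_bot.1 (Submodule.finrank_eq_zero.1 h7))

end rank

/-! ### Classes -/

section classes

variable [FiniteDimensional k M]

/-- In a nilpotent pair of classes all pairs are unipotent pairs. -/
theorem up_of_cl (hC : Core G) {s t : M →ₗ[k] M} (hs : IsMin G s) (ht : IsMin G t) (hn : IsNilpotent (s * t))
    {x y : M →ₗ[k] M} (hx : x ∈ cl G s) (hy : y ∈ cl G t) : UP x y := by
  by_cases hx0 : x = 0
  · subst hx0
    exact ⟨by simp, hy.1.1, by simp, by simp⟩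
  by_cases hy0 : y = 0
  · subst hy0
    exact ⟨hx.1.1, by simp, by simp, by simp⟩
  have hxm := isMin_of_mem_cl hs hx hx0
  have hym := isMin_of_mem_cl ht hy hy0
  have hn' : IsNilpotent (x * y) :=
    (hC.not_isNilpotent_congr hs ht hxm hym (same_of_mem_cl hs hx hx0).symm (same_of_mem_cl ht hy hy0).symm).1 hn
  exact ⟨hxm.sq, hym.sq, hC.t1 hxm hy.1 hn', hC.t1 hym hx.1 (isNilpotent_mul_comm hn')⟩

/-- All commutators lie in one class. -/
theorem comm_mem_cl (hC : Core G) {s t : M →ₗ[k] M} (hs : IsMin G s) (ht : IsMin G t)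
    (hn : IsNilpotent (s * t)) (hl : s * t - t * s ≠ 0) {x y : M →ₗ[k] M} (hx : x ∈ cl G s) (hy : y ∈ cl G t) :
    x * y - y * x ∈ cl G (s * t - t * s) := by
  have hup := up_of_cl hC hs ht hn (self_mem_cl hs.1) (self_mem_cl ht.1)
  have hxy := up_of_cl hC hs ht hn hx hy
  by_cases h0 : x * y - y * x = 0
  · rw [h0]
    exact ⟨QIn.zero G, by rw [LinearMap.ker_zero]; exact le_top, by rw [LinearMap.range_zero]; exact bot_le⟩
  have hx0 : x ≠ 0 := by rintro rfl; simp at h0
  have hy0 : y ≠ 0 := by rintro rfl; simp at h0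
  have hxs := same_of_mem_cl hs hx hx0
  have hyt := same_of_mem_cl ht hy hy0
  obtain ⟨h1, h2, h3, -, -⟩ := hup.l_spec hs ht hl
  obtain ⟨h1', h2', h3', -, -⟩ := hxy.l_spec (isMin_of_mem_cl hs hx hx0) (isMin_of_mem_cl ht hy hy0) h0
  refine ⟨h1'.1, ?_, ?_⟩
  · rw [h3, h3', hxs.1, hxs.2, hyt.1, hyt.2]
  · rw [h2, h2', hxs.1, hxs.2, hyt.1, hyt.2]

/-- conjugation on endomorphisms -/
def conjL (g : LinearMap.GeneralLinearGroup k M) : (M →ₗ[k] M) →ₗ[k] (M →ₗ[k] M) where
  toFun y := (g : M →ₗ[k] M) * y * ((g⁻¹ : LinearMap.GeneralLinearGroup k M) : M →ₗ[k] M)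
  map_add' x y := by rw [mul_add, add_mul]
  map_smul' c x := by rw [mul_smul_comm, smul_mul_assoc]; rfl

omit [FiniteDimensional k M] in
theorem conjL_apply (g : LinearMap.GeneralLinearGroup k M) (y : M →ₗ[k] M) :
    conjL g y = (g : M →ₗ[k] M) * y * ((g⁻¹ : LinearMap.GeneralLinearGroup k M) : M →ₗ[k] M) := rfl

omit [FiniteDimensional k M] in
theorem conjL_inv_conjL (g : LinearMap.GeneralLinearGroup k M) (y : M →ₗ[k] M) : conjL g⁻¹ (conjL g y) = y := by
  rw [conjL_apply, conjL_apply, inv_inv]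
  calc _ = (((g⁻¹ : LinearMap.GeneralLinearGroup k M) : M →ₗ[k] M) * (g : M →ₗ[k] M)) * y *
        (((g⁻¹ : LinearMap.GeneralLinearGroup k M) : M →ₗ[k] M) * (g : M →ₗ[k] M)) := by simp only [mul_assoc]
    _ = y := by rw [Units.inv_mul, one_mul, mul_one]

omit [FiniteDimensional k M] in
theorem conjL_injective (g : LinearMap.GeneralLinearGroup k M) : Function.Injective (conjL g) := by
  intro x y h
  rw [← conjL_inv_conjL g x, h, conjL_inv_conjL]

omit [FiniteDimensional k M] in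
theorem conjL_mul (g h : LinearMap.GeneralLinearGroup k M) (y : M →ₗ[k] M) :
    conjL (g * h) y = conjL g (conjL h y) := by
  simp only [conjL_apply, Units.val_mul, mul_inv_rev, mul_assoc]

omit [FiniteDimensional k M] in
theorem conjL_mem_cl {g : LinearMap.GeneralLinearGroup k M} (hg : g ∈ G) {s x : M →ₗ[k] M} (hx : x ∈ cl G s) :
    conjL g x ∈ cl G (conjL g s) := by
  refine ⟨hx.1.conj hg, ?_, ?_⟩
  · rw [conjL_apply, conjL_apply, ker_conj, ker_conj]
    exact Submodule.map_mono hx.2.1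
  · rw [conjL_apply, conjL_apply, range_conj, range_conj]
    exact Submodule.map_mono hx.2.2

omit [FiniteDimensional k M] in
theorem finrank_clS_conj {g : LinearMap.GeneralLinearGroup k M} (hg : g ∈ G) {s : M →ₗ[k] M} (hs : s * s = 0)
    (hs' : conjL g s * conjL g s = 0) :
    Module.finrank k (clS G (conjL g s) hs') = Module.finrank k (clS G s hs) := by
  have h1 : (clS G s hs).map (conjL g) = clS G (conjL g s) hs' := by
    ext y
    constructor
    · rintro ⟨x, hx, rfl⟩
      exact conjL_mem_cl hg hx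
    · intro hy
      have h2 := conjL_mem_cl (G.inv_mem hg) hy
      rw [conjL_inv_conjL] at h2
      refine ⟨conjL g⁻¹ y, h2, ?_⟩
      have := conjL_inv_conjL g⁻¹ y
      rwa [inv_inv] at this
  rw [← h1]
  have h3 := finrank_map_inj (conjL g) (conjL_injective g) (clS G s hs)
  exact h3

/-- Every minimal vector has a non-nilpotent conjugate partner. -/
def HasOpp (G : Subgroup (LinearMap.GeneralLinearGroup k M)) : Prop :=
  ∀ y : M →ₗ[k] M, IsMin G y → ∃ g ∈ G, ¬ IsNilpotent (y * conjL g y)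

omit [FiniteDimensional k M] in
theorem clS_congr {s t : M →ₗ[k] M} (hs : s * s = 0) (ht : t * t = 0) (h : Same s t) : clS G s hs = clS G t ht := by
  ext x
  rw [mem_clS, mem_clS, cl_congr h]

omit [FiniteDimensional k M] in
theorem finrank_clS_congr {s t : M →ₗ[k] M} (hs : s * s = 0) (ht : t * t = 0) (h : Same s t) :
    Module.finrank k (clS G s hs) = Module.finrank k (clS G t ht) := by
  rw [clS_congr hs ht h]

omit [FiniteDimensional k M] in
theorem same_neg (s : M →ₗ[k] M) : Same (-s) s := ⟨LinearMap.ker_neg s, LinearMap.range_neg s⟩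

omit [FiniteDimensional k M] in
/-- Opposite classes are conjugate, hence have the same dimension. -/
theorem finrank_clS_opp {s t : M →ₗ[k] M} (hs : IsMin G s) (ht : IsMin G t) (h : Inv s t) :
    Module.finrank k (clS G s h.ss) = Module.finrank k (clS G t h.tt) := by
  have hw : h.w ∈ G :=
    G.mul_mem (G.mul_mem hs.1.mem_one (G.inv_mem ht.1.mem_one)) hs.1.mem_one
  have h1 : conjL h.w t = -s := by
    rw [conjL_apply, h.w_mul, mul_assoc, Units.mul_inv, mul_one]
  have h2 : conjL h.w t * conjL h.w t = 0 := by rw [h1, neg_mul_neg, h.ss]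
  rw [← finrank_clS_conj hw h.tt h2]
  exact finrank_clS_congr h.ss h2 (by rw [h1]; exact (same_neg s).symm)

omit [FiniteDimensional k M] in
theorem isMin_conj {s : M →ₗ[k] M} (hs : IsMin G s) {g : LinearMap.GeneralLinearGroup k M} (hg : g ∈ G) :
    IsMin G (conjL g s) := hs.conj hg

/-- The class of the commutator has the same dimension as the class of `s`. -/
theorem finrank_clS_comm (hC : Core G) (hO : HasOpp G) {s t : M →ₗ[k] M} (hs : IsMin G s) (ht : IsMin G t)
    (h : UP s t) (hl : s * t - t * s ≠ 0) :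
    Module.finrank k (clS G (s * t - t * s) h.l_sq) = Module.finrank k (clS G s h.ss) := by
  set l := s * t - t * s with hldef
  have hlm : IsMin G l := (h.l_spec hs ht hl).1
  -- a conjugate of `s` opposite to `l`
  obtain ⟨g, hg, hgn⟩ := hO l hlm
  have hex : ∃ x ∈ G, ¬ IsNilpotent (l * conjL x s) := by
    by_contra hcon
    push Not at hcon
    have h1 : ∀ x ∈ G, l * conjL x s * l = 0 := fun x hx => hC.t1 hlm (isMin_conj hs hx).1 (hcon x hx)
    have h2 : l = s - conjL (oneAdd t h.tt) s := by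
      rw [conjL_apply, h.conj, sub_sub_cancel]
    have h3 : l * conjL g l * l = 0 := by
      have h4 : conjL g l = conjL g s - conjL (g * oneAdd t h.tt) s := by
        conv_lhs => rw [h2]
        rw [map_sub, conjL_mul]
      rw [h4, mul_sub l, sub_mul _ _ l, h1 g hg, h1 _ (G.mul_mem hg ht.1.mem_one), sub_zero]
    apply hgn
    refine ⟨2, ?_⟩
    rw [pow_two, ← mul_assoc, h3, zero_mul]
  obtain ⟨x, hx, hxn⟩ := hex
  obtain ⟨t', ht', hsame, hi⟩ := hC.inv hlm (isMin_conj hs hx) hxn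
  rw [finrank_clS_opp hlm ht' hi, ← finrank_clS_conj hx h.ss (isMin_conj hs hx).sq]
  exact finrank_clS_congr hi.tt _ hsame

/-- **Surjectivity**: `y ↦ s y - y s` maps the class of `t` onto the class of the commutator. -/
theorem comm_surj (hC : Core G) (hO : HasOpp G) {s t : M →ₗ[k] M} (hs : IsMin G s) (ht : IsMin G t)
    (hn : IsNilpotent (s * t)) (hl : s * t - t * s ≠ 0) {z : M →ₗ[k] M} (hz : z ∈ cl G (s * t - t * s)) :
    ∃ y ∈ cl G t, s * y - y * s = z := by
  have hup := up_of_cl hC hs ht hn (self_mem_cl hs.1) (self_mem_cl ht.1)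
  let φ : (M →ₗ[k] M) →ₗ[k] (M →ₗ[k] M) := LinearMap.mulLeft k s - LinearMap.mulRight k s
  have hφ : ∀ y, φ y = s * y - y * s := fun y => rfl
  have hle : (clS G t hup.tt).map φ ≤ clS G (s * t - t * s) hup.l_sq := by
    rintro _ ⟨y, hy, rfl⟩
    rw [hφ]
    exact comm_mem_cl hC hs ht hn hl (self_mem_cl hs.1) hy
  have hinj : LinearMap.ker (φ.domRestrict (clS G t hup.tt)) = ⊥ := by
    rw [LinearMap.ker_eq_bot']
    rintro ⟨y, hy⟩ h0
    have h0' : s * y - y * s = 0 := h0
    by_contra hne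
    have hy0 : y ≠ 0 := fun h => hne (Subtype.ext h)
    exact hup.l_ne_zero hs ht hl (up_of_cl hC hs ht hn (self_mem_cl hs.1) hy) (Same.refl s)
      (same_of_mem_cl ht hy hy0) h0'
  have hrank : Module.finrank k ((clS G t hup.tt).map φ) = Module.finrank k (clS G t hup.tt) := by
    have h1 : LinearMap.range (φ.domRestrict (clS G t hup.tt)) = (clS G t hup.tt).map φ := by
      ext x
      simp only [LinearMap.mem_range, Submodule.mem_map]
      constructor
      · rintro ⟨y, rfl⟩; exact ⟨y, y.2, rfl⟩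
      · rintro ⟨y, hy, rfl⟩; exact ⟨⟨y, hy⟩, rfl⟩
    rw [← h1]
    exact LinearMap.finrank_range_of_inj (LinearMap.ker_eq_bot.1 hinj)
  have hrank2 : Module.finrank k (clS G (s * t - t * s) hup.l_sq) = Module.finrank k (clS G t hup.tt) := by
    have hl' : t * s - s * t ≠ 0 := by
      intro h0; apply hl; rw [← neg_sub, h0, neg_zero]
    rw [← finrank_clS_comm hC hO ht hs hup.symm hl']
    refine finrank_clS_congr _ _ ?_
    have h5 : s * t - t * s = -(t * s - s * t) := by abel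
    rw [h5]
    exact same_neg _
  have heq : (clS G t hup.tt).map φ = clS G (s * t - t * s) hup.l_sq :=
    Submodule.eq_of_le_of_finrank_le hle (by rw [hrank, hrank2])
  have hz' : z ∈ (clS G t hup.tt).map φ := by rw [heq]; exact hz
  obtain ⟨y, hy, hyz⟩ := hz'
  exact ⟨y, hy, hyz⟩

end classes

/-! ### Group level -/

section groups

variable [FiniteDimensional k M]

variable {σ τ : LinearMap.GeneralLinearGroup k M}

/-- commutators of elements of a unipotent pair of root groups -/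
theorem coe_commutator (hC : Core G) (hσ : σ ∈ minimalQuadraticElements G) (hτ : τ ∈ minimalQuadraticElements G)
    (hn : IsNilpotent (((σ : M →ₗ[k] M) - 1) * ((τ : M →ₗ[k] M) - 1)))
    {e f : LinearMap.GeneralLinearGroup k M} (he : e ∈ sameActionSubgroup G σ) (hf : f ∈ sameActionSubgroup G τ) :
    ((e * f * e⁻¹ * f⁻¹ : LinearMap.GeneralLinearGroup k M) : M →ₗ[k] M) =
      1 + (((e : M →ₗ[k] M) - 1) * ((f : M →ₗ[k] M) - 1) - ((f : M →ₗ[k] M) - 1) * ((e : M →ₗ[k] M) - 1)) := by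
  have hup := up_of_cl hC (mem_minimalQuadraticElements_iff.1 hσ) (mem_minimalQuadraticElements_iff.1 hτ) hn
    ((mem_E_iff hσ).1 he) ((mem_E_iff hτ).1 hf)
  have h1 : e = oneAdd ((e : M →ₗ[k] M) - 1) hup.ss := by rw [eq_oneAdd_iff]; abel
  have h2 : f = oneAdd ((f : M →ₗ[k] M) - 1) hup.tt := by rw [eq_oneAdd_iff]; abel
  have h3 := hup.coe_comm
  rw [← h1, ← h2] at h3
  exact h3

theorem commutator_eq_one_iff (hC : Core G) (hσ : σ ∈ minimalQuadraticElements G) (hτ : τ ∈ minimalQuadraticElements G)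
    (hn : IsNilpotent (((σ : M →ₗ[k] M) - 1) * ((τ : M →ₗ[k] M) - 1)))
    {e f : LinearMap.GeneralLinearGroup k M} (he : e ∈ sameActionSubgroup G σ) (hf : f ∈ sameActionSubgroup G τ) :
    e * f = f * e ↔
      ((e : M →ₗ[k] M) - 1) * ((f : M →ₗ[k] M) - 1) - ((f : M →ₗ[k] M) - 1) * ((e : M →ₗ[k] M) - 1) = 0 := by
  have h1 := coe_commutator hC hσ hτ hn he hf
  constructor
  · intro h
    have h2 : e * f * e⁻¹ * f⁻¹ = 1 := by rw [h]; group
    rw [h2, Units.val_one] at h1
    have h3 : (1 : M →ₗ[k] M) + 0 = 1 + (((e : M →ₗ[k] M) - 1) * ((f : M →ₗ[k] M) - 1) -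
        ((f : M →ₗ[k] M) - 1) * ((e : M →ₗ[k] M) - 1)) := by rw [add_zero]; exact h1
    exact (add_left_cancel h3).symm
  · intro h
    rw [h, add_zero] at h1
    have h2 : e * f * e⁻¹ * f⁻¹ = 1 := Units.ext (by rw [h1, Units.val_one])
    have h3 : e * f = (e * f * e⁻¹ * f⁻¹) * (f * e) := by group
    rw [h3, h2, one_mul]

/-- The main result on non-commuting unipotent pairs `E(σ)`, `E(τ)` with `σ`, `τ` non-commuting. -/
theorem unipotent_main (hC : Core G) (hO : HasOpp G) (hσ : σ ∈ minimalQuadraticElements G)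
    (hτ : τ ∈ minimalQuadraticElements G)
    (hn : IsNilpotent (((σ : M →ₗ[k] M) - 1) * ((τ : M →ₗ[k] M) - 1))) (hne : σ * τ ≠ τ * σ) :
    ∃ lam ∈ minimalQuadraticElements G,
      (∀ e ∈ sameActionSubgroup G σ, ∀ f ∈ sameActionSubgroup G τ, e * f * e⁻¹ * f⁻¹ ∈ sameActionSubgroup G lam) ∧
      (∀ e ∈ sameActionSubgroup G σ, e ≠ 1 → ∀ z ∈ sameActionSubgroup G lam,
        ∃ f ∈ sameActionSubgroup G τ, e * f * e⁻¹ * f⁻¹ = z) ∧
      (∀ f ∈ sameActionSubgroup G τ, f ≠ 1 → ∀ z ∈ sameActionSubgroup G lam,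
        ∃ e ∈ sameActionSubgroup G σ, e * f * e⁻¹ * f⁻¹ = z) ∧
      (∀ e ∈ sameActionSubgroup G σ, ∀ f ∈ sameActionSubgroup G τ, e ≠ 1 → f ≠ 1 → e * f ≠ f * e) ∧
      (∀ z ∈ sameActionSubgroup G lam, ∀ e ∈ sameActionSubgroup G σ, z * e = e * z) ∧
      (∀ z ∈ sameActionSubgroup G lam, ∀ f ∈ sameActionSubgroup G τ, z * f = f * z) ∧
      ((sameActionSubgroup G σ ⊔ sameActionSubgroup G τ : Subgroup (LinearMap.GeneralLinearGroup k M)) :
        Set (LinearMap.GeneralLinearGroup k M)) ⊆ quadraticUnipotentCore G (sameActionSubgroup G lam) := by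
  have hσ' := mem_minimalQuadraticElements_iff.1 hσ
  have hτ' := mem_minimalQuadraticElements_iff.1 hτ
  have hup := up_of_cl hC hσ' hτ' hn (self_mem_cl hσ'.1) (self_mem_cl hτ'.1)
  set s := (σ : M →ₗ[k] M) - 1 with hs
  set t := (τ : M →ₗ[k] M) - 1 with ht
  have hl : s * t - t * s ≠ 0 := fun h0 => hne
    ((commutator_eq_one_iff hC hσ hτ hn (self_mem_sameActionSubgroup hσ) (self_mem_sameActionSubgroup hτ)).2 h0)
  obtain ⟨hlm, hrl, hkl, -, -⟩ := hup.l_spec hσ' hτ' hl
  set l := s * t - t * s with hldef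
  have hlam : oneAdd l hup.l_sq ∈ minimalQuadraticElements G := oneAdd_mem_minimal hlm
  have hL : ∀ x : LinearMap.GeneralLinearGroup k M, x ∈ sameActionSubgroup G (oneAdd l hup.l_sq) ↔
      (x : M →ₗ[k] M) - 1 ∈ cl G l := fun x => E_oneAdd_eq hlm
  have hone : ∀ z x : M →ₗ[k] M, z = 1 + x ↔ z - 1 = x := by
    intro z x
    constructor
    · rintro rfl; abel
    · rintro rfl; abel
  -- products with the class of `l` vanish
  have hzs : ∀ z ∈ cl G l, ∀ x ∈ cl G s, z * x = 0 ∧ x * z = 0 := by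
    intro z hz x hx
    constructor
    · rw [mul_eq_zero_iff_range_le]
      exact (hx.2.2.trans (range_le_ker_of_mul (hup.l_mul_s (Same.refl s)))).trans hz.2.1
    · rw [mul_eq_zero_iff_range_le]
      exact (hz.2.2.trans (range_le_ker_of_mul (hup.s_mul_l (Same.refl s)))).trans hx.2.1
  have hzt : ∀ z ∈ cl G l, ∀ x ∈ cl G t, z * x = 0 ∧ x * z = 0 := by
    intro z hz x hx
    constructor
    · rw [mul_eq_zero_iff_range_le]
      exact (hx.2.2.trans (range_le_ker_of_mul (hup.l_mul_t (Same.refl t)))).trans hz.2.1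
    · rw [mul_eq_zero_iff_range_le]
      exact (hz.2.2.trans (range_le_ker_of_mul (hup.t_mul_l (Same.refl t)))).trans hx.2.1
  have hcomm : ∀ a b : LinearMap.GeneralLinearGroup k M, ((a : M →ₗ[k] M) - 1) * ((b : M →ₗ[k] M) - 1) = 0 ∧
      ((b : M →ₗ[k] M) - 1) * ((a : M →ₗ[k] M) - 1) = 0 → a * b = b * a := by
    rintro a b ⟨h1, h2⟩
    apply Units.ext
    rw [Units.val_mul, Units.val_mul]
    have e : ∀ a b : M →ₗ[k] M, a * b = (a - 1) * (b - 1) + a + b - 1 := by intro a b; noncomm_ring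
    rw [e, e (b : M →ₗ[k] M), h1, h2]
    abel
  refine ⟨oneAdd l hup.l_sq, hlam, ?_, ?_, ?_, ?_, ?_, ?_, ?_⟩
  · intro e he f hf
    rw [hL, coe_commutator hC hσ hτ hn he hf, add_sub_cancel_left]
    exact comm_mem_cl hC hσ' hτ' hn hl ((mem_E_iff hσ).1 he) ((mem_E_iff hτ).1 hf)
  · intro e he he1 z hz
    rw [hL] at hz
    have heE := (mem_E_iff hσ).1 he
    have he0 := sub_one_ne_zero.2 he1
    have hem := isMin_of_mem_cl hσ' heE he0
    have hes := same_of_mem_cl hσ' heE he0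
    have hn' : IsNilpotent (((e : M →ₗ[k] M) - 1) * t) :=
      (hC.not_isNilpotent_congr hσ' hτ' hem hτ' hes.symm (Same.refl t)).1 hn
    have hup' := up_of_cl hC hσ' hτ' hn heE (self_mem_cl hτ'.1)
    have hl' : ((e : M →ₗ[k] M) - 1) * t - t * ((e : M →ₗ[k] M) - 1) ≠ 0 :=
      hup.l_ne_zero hσ' hτ' hl hup' hes (Same.refl t)
    have hz' : (z : M →ₗ[k] M) - 1 ∈ cl G (((e : M →ₗ[k] M) - 1) * t - t * ((e : M →ₗ[k] M) - 1)) := by
      have h1 := comm_mem_cl hC hσ' hτ' hn hl heE (self_mem_cl hτ'.1)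
      rwa [cl_congr (same_of_mem_cl hlm h1 hl')]
    obtain ⟨y, hy, hyz⟩ := comm_surj hC hO hem hτ' hn' hl' hz'
    refine ⟨oneAdd y hy.1.1, oneAdd_mem_E hτ hy, ?_⟩
    apply Units.ext
    rw [coe_commutator hC hσ hτ hn he (oneAdd_mem_E hτ hy), coe_oneAdd, add_sub_cancel_left, hyz]
    abel
  · intro f hf hf1 z hz
    rw [hL] at hz
    have hfE := (mem_E_iff hτ).1 hf
    have hf0 := sub_one_ne_zero.2 hf1
    have hfm := isMin_of_mem_cl hτ' hfE hf0
    have hfs := same_of_mem_cl hτ' hfE hf0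
    have hn' : IsNilpotent (((f : M →ₗ[k] M) - 1) * s) :=
      (hC.not_isNilpotent_congr hτ' hσ' hfm hσ' hfs.symm (Same.refl s)).1 (isNilpotent_mul_comm hn)
    have hup' := up_of_cl hC hσ' hτ' hn (self_mem_cl hσ'.1) hfE
    have hl' : s * ((f : M →ₗ[k] M) - 1) - ((f : M →ₗ[k] M) - 1) * s ≠ 0 :=
      hup.l_ne_zero hσ' hτ' hl hup' (Same.refl s) hfs
    have hl'' : ((f : M →ₗ[k] M) - 1) * s - s * ((f : M →ₗ[k] M) - 1) ≠ 0 := by
      intro h0; apply hl'; rw [← neg_sub, h0, neg_zero]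
    have hsm : Same (((f : M →ₗ[k] M) - 1) * s - s * ((f : M →ₗ[k] M) - 1)) l := by
      have h1 := comm_mem_cl hC hσ' hτ' hn hl (self_mem_cl hσ'.1) hfE
      have h2 := same_of_mem_cl hlm h1 hl'
      rw [← neg_sub]
      exact (same_neg _).trans h2
    have hz' : -((z : M →ₗ[k] M) - 1) ∈ cl G (((f : M →ₗ[k] M) - 1) * s - s * ((f : M →ₗ[k] M) - 1)) := by
      rw [cl_congr hsm]
      exact (clS G l hup.l_sq).neg_mem hz
    obtain ⟨y, hy, hyz⟩ := comm_surj hC hO hfm hσ' hn' hl'' hz'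
    refine ⟨oneAdd y hy.1.1, oneAdd_mem_E hσ hy, ?_⟩
    apply Units.ext
    rw [coe_commutator hC hσ hτ hn (oneAdd_mem_E hσ hy) hf, coe_oneAdd, add_sub_cancel_left]
    have h3 : y * ((f : M →ₗ[k] M) - 1) - ((f : M →ₗ[k] M) - 1) * y = (z : M →ₗ[k] M) - 1 := by
      rw [← neg_sub, hyz, neg_neg]
    rw [h3]
    abel
  · intro e he f hf he1 hf1 h
    have heE := (mem_E_iff hσ).1 he
    have he0 := sub_one_ne_zero.2 he1
    have hfE := (mem_E_iff hτ).1 hf
    have hf0 := sub_one_ne_zero.2 hf1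
    have h0 := (commutator_eq_one_iff hC hσ hτ hn he hf).1 h
    exact hup.l_ne_zero hσ' hτ' hl (up_of_cl hC hσ' hτ' hn heE hfE) (same_of_mem_cl hσ' heE he0)
      (same_of_mem_cl hτ' hfE hf0) h0
  · intro z hz e he
    exact hcomm z e (hzs _ ((hL z).1 hz) _ ((mem_E_iff hσ).1 he))
  · intro z hz f hf
    exact hcomm z f (hzt _ ((hL z).1 hz) _ ((mem_E_iff hτ).1 hf))
  · -- the unipotent core
    have hLl : (oneAdd l hup.l_sq : M →ₗ[k] M) - 1 = l := by rw [coe_oneAdd, add_sub_cancel_left]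
    have hfixL : fixedSubmodule (sameActionSubgroup G (oneAdd l hup.l_sq)) = LinearMap.ker l := by
      rw [fixedSubmodule_E hlam, hLl]
    have hcomL : commutatorSubmodule (sameActionSubgroup G (oneAdd l hup.l_sq)) = LinearMap.range l := by
      rw [commutatorSubmodule_E hlam, hLl]
    have h21 : LinearMap.range l ≤ LinearMap.ker l := range_le_ker_of_mul hup.l_sq
    have hflag : sameActionSubgroup G σ ⊔ sameActionSubgroup G τ ≤ flagStab h21 := by
      apply sup_le
      · intro a ha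
        have haE := (mem_E_iff hσ).1 ha
        set x := (a : M →ₗ[k] M) - 1 with hx
        have hax : ∀ m, (a : M →ₗ[k] M) m - m = x m := fun m => by
          rw [hx, LinearMap.sub_apply, Module.End.one_apply]
        have hux := up_of_cl hC hσ' hτ' hn haE (self_mem_cl hτ'.1)
        refine ⟨fun m => ?_, fun m hm => ?_, fun m hm => ?_⟩
        · rw [hax]
          exact congrArg (fun f : M →ₗ[k] M => f m) (hzs l (self_mem_cl hlm.1) x haE).1
        · rw [hax]
          rw [hkl] at hm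
          obtain ⟨w, ⟨b, rfl⟩, w', hw', rfl⟩ := Submodule.mem_sup.1 hm.2
          rw [map_add, LinearMap.mem_ker.1 (haE.2.1 hw'), add_zero, hrl]
          apply Submodule.mem_sup_left
          exact ⟨haE.2.2 ⟨t b, rfl⟩, congrArg (fun f : M →ₗ[k] M => f b) hux.tst⟩
        · rw [← sub_eq_zero, hax]
          obtain ⟨y, rfl⟩ := hm
          exact congrArg (fun f : M →ₗ[k] M => f y) (hzs l (self_mem_cl hlm.1) x haE).2
      · intro a ha
        have haE := (mem_E_iff hτ).1 ha
        set x := (a : M →ₗ[k] M) - 1 with hx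
        have hax : ∀ m, (a : M →ₗ[k] M) m - m = x m := fun m => by
          rw [hx, LinearMap.sub_apply, Module.End.one_apply]
        have hux := up_of_cl hC hσ' hτ' hn (self_mem_cl hσ'.1) haE
        refine ⟨fun m => ?_, fun m hm => ?_, fun m hm => ?_⟩
        · rw [hax]
          exact congrArg (fun f : M →ₗ[k] M => f m) (hzt l (self_mem_cl hlm.1) x haE).1
        · rw [hax]
          rw [hkl] at hm
          obtain ⟨w, ⟨b, rfl⟩, w', hw', rfl⟩ := Submodule.mem_sup.1 hm.1
          rw [map_add, LinearMap.mem_ker.1 (haE.2.1 hw'), add_zero, hrl]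
          apply Submodule.mem_sup_right
          exact ⟨haE.2.2 ⟨s b, rfl⟩, congrArg (fun f : M →ₗ[k] M => f b) hux.sts⟩
        · rw [← sub_eq_zero, hax]
          obtain ⟨y, rfl⟩ := hm
          exact congrArg (fun f : M →ₗ[k] M => f y) (hzt l (self_mem_cl hlm.1) x haE).2
    have hcent : ∀ g ∈ sameActionSubgroup G σ ⊔ sameActionSubgroup G τ,
        ∀ z ∈ sameActionSubgroup G (oneAdd l hup.l_sq), z * g = g * z := by
      intro g hg z hz
      exact comm_of_mem_sup (fun a ha => hcomm z a (hzs _ ((hL z).1 hz) _ ((mem_E_iff hσ).1 ha)))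
        (fun b hb => hcomm z b (hzt _ ((hL z).1 hz) _ ((mem_E_iff hτ).1 hb))) hg
    intro g hg
    have hg' : g ∈ sameActionSubgroup G σ ⊔ sameActionSubgroup G τ := hg
    obtain ⟨f1, f2, f3⟩ := hflag hg'
    refine ⟨sup_le (sameActionSubgroup_le hσ) (sameActionSubgroup_le hτ) hg', ?_, ?_, ?_, ?_⟩
    · rw [mem_normalizer_iff_conjBy]
      exact conjBy_of_commute (fun z hz => (hcent g hg' z hz).symm)
    · rw [hfixL]; exact f1
    · rw [hfixL, hcomL]; exact f2
    · rw [hcomL]; exact f3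

end groups

end Cfsg.Agent.H742
end

-- part: H742/HasOppOf
section
set_option autoImplicit false
open Cfsg

namespace Cfsg.Agent.H742

open Cfsg.Agent.H740 Cfsg.Agent.H731

variable {k : Type*} [Field k] {M : Type*} [AddCommGroup M] [Module k M] [FiniteDimensional k M]
variable {G : Subgroup (LinearMap.GeneralLinearGroup k M)}

/-- Every unipotent normal subgroup of `G` is trivial. -/
def NoUnip (G : Subgroup (LinearMap.GeneralLinearGroup k M)) : Prop :=
  ∀ N : Subgroup (LinearMap.GeneralLinearGroup k M), N ≤ G → (∀ g ∈ G, conjBy N g = N) → IsUnipotentOn N → N = ⊥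

omit [FiniteDimensional k M] in
/-- A unipotent group acting on a nonzero space has a nonzero fixed vector. -/
theorem exists_fixed {N : Subgroup (LinearMap.GeneralLinearGroup k M)} (hN : IsUnipotentOn N)
    (hM : ∃ m : M, m ≠ 0) : ∃ m ∈ fixedSubmodule N, m ≠ 0 := by
  obtain ⟨n, hn⟩ := isUnipotentOn_def.1 hN
  -- the words
  let Q : ℕ → Prop := fun n => ∀ l : List (LinearMap.GeneralLinearGroup k M), (∀ g ∈ l, g ∈ N) → l.length = n →
      ∀ m : M, (l.map (fun g : LinearMap.GeneralLinearGroup k M => (g : M →ₗ[k] M) - 1)).prod m = 0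
  have hQ : ∃ n, Q n := ⟨n, fun l hl hlen m => by rw [hn l hl hlen, LinearMap.zero_apply]⟩
  classical
  have hQn := Nat.find_spec hQ
  set n₀ := Nat.find hQ with hn₀
  have hn0 : n₀ ≠ 0 := by
    intro h0
    rw [h0] at hQn
    obtain ⟨m, hm⟩ := hM
    exact hm (by simpa using hQn [] (by simp) rfl m)
  obtain ⟨n', hn'⟩ : ∃ n', n₀ = n' + 1 := ⟨n₀ - 1, by omega⟩
  have hmin : ¬ Q n' := Nat.find_min hQ (by omega)
  simp only [Q, not_forall] at hmin
  obtain ⟨l, hl, hlen, m, hm⟩ := hmin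
  refine ⟨_, ?_, hm⟩
  rw [fixedSubmodule_mem]
  intro g hg
  have h1 := hQn (g :: l) (by
    intro x hx
    rcases List.mem_cons.1 hx with rfl | hx
    · exact hg
    · exact hl x hx) (by rw [List.length_cons, hlen, hn']) m
  rw [List.map_cons, List.prod_cons, Module.End.mul_apply, LinearMap.sub_apply, Module.End.one_apply,
    sub_eq_zero] at h1
  exact h1

omit [FiniteDimensional k M] in
theorem noUnip_of_irreducible (h : IsIrreducibleFor G) : NoUnip G := by
  intro N hNG hN hu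
  obtain ⟨m, hm, hm0⟩ := exists_fixed hu h.1
  have hinv : ∀ g ∈ G, ∀ w ∈ fixedSubmodule N, (g : M →ₗ[k] M) w ∈ fixedSubmodule N := by
    intro g hg w hw
    rw [fixedSubmodule_mem] at hw ⊢
    intro x hx
    have h1 : g⁻¹ * x * g ∈ N := by
      rw [← hN g hg, mem_conjBy] at hx
      exact hx
    have h2 := hw _ h1
    have h3 : x * g = g * (g⁻¹ * x * g) := by group
    have h4 : (x : M →ₗ[k] M) ((g : M →ₗ[k] M) w) = (g : M →ₗ[k] M) (((g⁻¹ * x * g :
        LinearMap.GeneralLinearGroup k M) : M →ₗ[k] M) w) := by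
      rw [← Module.End.mul_apply, ← Module.End.mul_apply, ← Units.val_mul, ← Units.val_mul, h3]
    rw [h4, h2]
  rcases h.2 (fixedSubmodule N) hinv with h1 | h1
  · rw [h1, Submodule.mem_bot] at hm
    exact absurd hm hm0
  · rw [Subgroup.eq_bot_iff_forall]
    intro x hx
    apply Units.ext
    ext w
    have : w ∈ fixedSubmodule N := by rw [h1]; exact Submodule.mem_top
    rw [fixedSubmodule_mem] at this
    rw [this x hx, Units.val_one, Module.End.one_apply]

/-- **Opposite conjugates exist.** -/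
theorem hasOpp_of_noUnip (hC : Core G) (hH : NoUnip G) : HasOpp G := by
  intro y hy
  by_contra hcon
  push Not at hcon
  have hσ : oneAdd y hy.sq ∈ minimalQuadraticElements G := oneAdd_mem_minimal hy
  set σ := oneAdd y hy.sq with hσdef
  have hσy : (σ : M →ₗ[k] M) - 1 = y := by rw [hσdef, coe_oneAdd, add_sub_cancel_left]
  set W : Set (Subgroup (LinearMap.GeneralLinearGroup k M)) :=
    {A | ∃ g ∈ G, A = conjBy (sameActionSubgroup G σ) g} with hW
  have hWG : ∀ A ∈ W, A ≤ G := by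
    rintro _ ⟨g, hg, rfl⟩
    rw [conjBy_sameActionSubgroup hσ hg]
    exact sameActionSubgroup_le (conj_mem_minimal hσ hg)
  have hWconj : ∀ A ∈ W, ∀ g ∈ G, conjBy A g ∈ W := by
    rintro _ ⟨h, hh, rfl⟩ g hg
    exact ⟨g * h, G.mul_mem hg hh, conjBy_conjBy _ _ _⟩
  have hWW : ∀ A ∈ W, ∀ B ∈ W, IsUnipotentOn (A ⊔ B) := by
    rintro _ ⟨g, hg, rfl⟩ _ ⟨h, hh, rfl⟩
    rw [conjBy_sameActionSubgroup hσ hg, conjBy_sameActionSubgroup hσ hh]
    refine unipotent_case hC (conj_mem_minimal hσ hg) (conj_mem_minimal hσ hh) ?_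
    have h1 := hcon (g⁻¹ * h) (G.mul_mem (G.inv_mem hg) hh)
    rw [coe_conj_sub_one, coe_conj_sub_one, hσy]
    -- conjugate by `g`
    have h2 : (g : M →ₗ[k] M) * y * ((g⁻¹ : LinearMap.GeneralLinearGroup k M) : M →ₗ[k] M) *
        ((h : M →ₗ[k] M) * y * ((h⁻¹ : LinearMap.GeneralLinearGroup k M) : M →ₗ[k] M)) =
        conjL g (y * conjL (g⁻¹ * h) y) := by
      simp only [conjL_apply, Units.val_mul, mul_inv_rev, inv_inv]
      have e1 : ∀ z : M →ₗ[k] M, (g : M →ₗ[k] M) * (((g⁻¹ : LinearMap.GeneralLinearGroup k M) : M →ₗ[k] M) * z) = z := by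
        intro z
        rw [← mul_assoc, Units.mul_inv, one_mul]
      simp only [mul_assoc]
      rw [Units.mul_inv, mul_one]
    rw [h2]
    obtain ⟨n, hn⟩ := h1
    refine ⟨n, ?_⟩
    have h3 : ∀ (z : M →ₗ[k] M) (n : ℕ), (conjL g z) ^ n = conjL g (z ^ n) := by
      intro z n
      induction n with
      | zero => rw [pow_zero, pow_zero, conjL_apply, mul_one, Units.mul_inv]
      | succ n ih =>
        rw [pow_succ, ih, pow_succ]
        simp only [conjL_apply]
        calc _ = (g : M →ₗ[k] M) * z ^ n * (((g⁻¹ : LinearMap.GeneralLinearGroup k M) : M →ₗ[k] M) * (g : M →ₗ[k] M)) * z *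
              ((g⁻¹ : LinearMap.GeneralLinearGroup k M) : M →ₗ[k] M) := by simp only [mul_assoc]
          _ = _ := by rw [Units.inv_mul, mul_one, mul_assoc (g : M →ₗ[k] M)]
    rw [h3, hn, map_zero]
  have hu := isUnipotentOn_iSup hWG hWW hWconj
  have hn : ∀ g ∈ G, conjBy (⨆ A ∈ W, A) g = ⨆ A ∈ W, A := by
    have hle : ∀ g ∈ G, conjBy (⨆ A ∈ W, A) g ≤ ⨆ A ∈ W, A := by
      intro g hg
      rw [conjBy_iSup]
      apply iSup_le
      intro A
      rw [conjBy_iSup]
      apply iSup_le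
      intro hA
      exact le_iSup₂_of_le (conjBy A g) (hWconj A hA g hg) le_rfl
    intro g hg
    apply le_antisymm (hle g hg)
    have h1 := hle g⁻¹ (G.inv_mem hg)
    have h2 := (conjBy_le_conjBy (g := g)).2 h1
    rwa [conjBy_conjBy, mul_inv_cancel, conjBy_one] at h2
  have hbot := hH _ (iSup₂_le hWG) hn hu
  have h1 : sameActionSubgroup G σ ≤ ⨆ A ∈ W, A :=
    le_iSup₂_of_le (sameActionSubgroup G σ) ⟨1, G.one_mem, (conjBy_one _).symm⟩ le_rfl
  rw [hbot, le_bot_iff] at h1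
  exact E_ne_bot hσ h1

/-! ### Conclusions -/

omit [FiniteDimensional k M] in
/-- class-two pairs are nilpotent pairs -/
theorem nilpotent_of_class_two {σ τ : LinearMap.GeneralLinearGroup k M} (hσ : ((σ : M →ₗ[k] M) - 1) * ((σ : M →ₗ[k] M) - 1) = 0)
    (hτ : ((τ : M →ₗ[k] M) - 1) * ((τ : M →ₗ[k] M) - 1) = 0)
    (h : σ * (τ * σ * τ⁻¹) = (τ * σ * τ⁻¹) * σ) : IsNilpotent (((σ : M →ₗ[k] M) - 1) * ((τ : M →ₗ[k] M) - 1)) := by
  set s := (σ : M →ₗ[k] M) - 1 with hs
  set t := (τ : M →ₗ[k] M) - 1 with ht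
  have hσe : σ = oneAdd s hσ := by rw [eq_oneAdd_iff, hs]; abel
  have hτe : τ = oneAdd t hτ := by rw [eq_oneAdd_iff, ht]; abel
  have h1 := congrArg Units.val h
  simp only [Units.val_mul] at h1
  rw [hσe, hτe] at h1
  simp only [coe_oneAdd, coe_oneAdd_inv] at h1
  set c := (1 + t) * s * (1 - t) with hc
  have hc1 : (1 + t) * (1 + s) * (1 - t) = 1 + c := by
    have e : (1 + t) * (1 + s) * (1 - t) = 1 - t * t + (1 + t) * s * (1 - t) := by noncomm_ring
    rw [e, hτ, sub_zero]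
  rw [hc1] at h1
  have h3 : s * c = c * s := by
    have e1 : (1 + s) * (1 + c) = 1 + c + s + s * c := by noncomm_ring
    have e2 : (1 + c) * (1 + s) = 1 + c + s + c * s := by noncomm_ring
    rw [e1, e2] at h1
    exact add_left_cancel h1
  have h2 : s * t * s * t * s = 0 := by
    have e1 : s * c * s = s * s * s - s * s * t * s + s * t * (s * s) - s * t * s * t * s := by
      rw [hc]; noncomm_ring
    rw [h3, mul_assoc, hσ] at e1
    simp only [mul_zero, zero_mul, sub_zero, add_zero, zero_sub] at e1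
    exact neg_eq_zero.1 e1.symm
  refine ⟨3, ?_⟩
  have e : (s * t) ^ 3 = (s * t * s * t * s) * t := by noncomm_ring
  rw [e, h2, zero_mul]

omit [FiniteDimensional k M] in
theorem closure_eq_of_surj {A L : Subgroup (LinearMap.GeneralLinearGroup k M)}
    {φ : LinearMap.GeneralLinearGroup k M → LinearMap.GeneralLinearGroup k M} (h1 : ∀ a ∈ A, φ a ∈ L)
    (h2 : ∀ z ∈ L, ∃ a ∈ A, φ a = z) : Subgroup.closure (φ '' (A : Set (LinearMap.GeneralLinearGroup k M))) = L := by
  apply le_antisymm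
  · rw [Subgroup.closure_le]
    rintro _ ⟨a, ha, rfl⟩
    exact h1 a ha
  · intro z hz
    obtain ⟨a, ha, rfl⟩ := h2 z hz
    exact Subgroup.subset_closure ⟨a, ha, rfl⟩

omit [FiniteDimensional k M] in
/-- commutators in `A ⊔ B` when `[A,B] ⊆ L` is central, `A`, `B` abelian -/
theorem commutator_sup_le {A B L : Subgroup (LinearMap.GeneralLinearGroup k M)}
    (hA : ∀ a ∈ A, ∀ a' ∈ A, a * a' = a' * a) (hB : ∀ b ∈ B, ∀ b' ∈ B, b * b' = b' * b)
    (hL : ∀ a ∈ A, ∀ b ∈ B, a * b * a⁻¹ * b⁻¹ ∈ L) (hLA : ∀ z ∈ L, ∀ a ∈ A, z * a = a * z)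
    (hLB : ∀ z ∈ L, ∀ b ∈ B, z * b = b * z) : ⁅A ⊔ B, A ⊔ B⁆ ≤ L := by
  have hcent : ∀ g ∈ A ⊔ B, ∀ z ∈ L, z * g = g * z := fun g hg z hz =>
    comm_of_mem_sup (hLA z hz) (hLB z hz) hg
  -- for fixed `x ∈ A ⊔ B`, the `y` with `[x, y] ∈ L`
  let K : LinearMap.GeneralLinearGroup k M → Subgroup (LinearMap.GeneralLinearGroup k M) := fun x =>
    { carrier := {y | y ∈ A ⊔ B ∧ x * y * x⁻¹ * y⁻¹ ∈ L}
      one_mem' := ⟨Subgroup.one_mem _, by
        have : x * 1 * x⁻¹ * (1 : LinearMap.GeneralLinearGroup k M)⁻¹ = 1 := by group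
        rw [this]; exact Subgroup.one_mem _⟩
      mul_mem' := by
        rintro a b ⟨ha, ha'⟩ ⟨hb, hb'⟩
        refine ⟨Subgroup.mul_mem _ ha hb, ?_⟩
        have h1 := hcent a ha _ hb'
        have : x * (a * b) * x⁻¹ * (a * b)⁻¹ = (x * a * x⁻¹ * a⁻¹) * (a * (x * b * x⁻¹ * b⁻¹) * a⁻¹) := by group
        have h8 : a * (x * b * x⁻¹ * b⁻¹) * a⁻¹ = x * b * x⁻¹ * b⁻¹ := by
          rw [← h1, mul_inv_cancel_right]
        rw [this, h8]
        exact L.mul_mem ha' hb'
      inv_mem' := by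
        rintro a ⟨ha, ha'⟩
        refine ⟨Subgroup.inv_mem _ ha, ?_⟩
        have h1 := hcent a ha _ (L.inv_mem ha')
        have : x * a⁻¹ * x⁻¹ * a⁻¹⁻¹ = a⁻¹ * ((x * a * x⁻¹ * a⁻¹)⁻¹ * a) := by group
        rw [this, h1, inv_mul_cancel_left]
        exact L.inv_mem ha' }
  have hswap : ∀ x y, x * y * x⁻¹ * y⁻¹ ∈ L → y * x * y⁻¹ * x⁻¹ ∈ L := by
    intro x y h
    have := L.inv_mem h
    have e : (x * y * x⁻¹ * y⁻¹)⁻¹ = y * x * y⁻¹ * x⁻¹ := by group
    rwa [e] at this
  have h1 : ∀ x ∈ A, ∀ y ∈ A ⊔ B, x * y * x⁻¹ * y⁻¹ ∈ L := by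
    intro x hx y hy
    have : A ⊔ B ≤ K x := by
      apply sup_le
      · intro a ha
        refine ⟨Subgroup.mem_sup_left ha, ?_⟩
        rw [hA x hx a ha]
        have : a * x * x⁻¹ * a⁻¹ = 1 := by group
        rw [this]; exact L.one_mem
      · intro b hb
        exact ⟨Subgroup.mem_sup_right hb, hL x hx b hb⟩
    exact (this hy).2
  have h2 : ∀ x ∈ B, ∀ y ∈ A ⊔ B, x * y * x⁻¹ * y⁻¹ ∈ L := by
    intro x hx y hy
    have : A ⊔ B ≤ K x := by
      apply sup_le
      · intro a ha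
        exact ⟨Subgroup.mem_sup_left ha, hswap _ _ (hL a ha x hx)⟩
      · intro b hb
        refine ⟨Subgroup.mem_sup_right hb, ?_⟩
        rw [hB x hx b hb]
        have : b * x * x⁻¹ * b⁻¹ = 1 := by group
        rw [this]; exact L.one_mem
    exact (this hy).2
  rw [Subgroup.commutator_le]
  intro x hx y hy
  rw [commutatorElement_def]
  have : A ⊔ B ≤ K y := by
    apply sup_le
    · intro a ha
      exact ⟨Subgroup.mem_sup_left ha, hswap _ _ (h1 a ha y hy)⟩
    · intro b hb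
      exact ⟨Subgroup.mem_sup_right hb, hswap _ _ (h2 b hb y hy)⟩
  exact hswap _ _ (this hx).2

/-- **Main conclusion for non-commuting nilpotent pairs of members of `Σ(G)`.** -/
theorem unipotent_conclusion (hC : Core G) (hO : HasOpp G) {E F : Subgroup (LinearMap.GeneralLinearGroup k M)}
    (hE : E ∈ quadraticRootSubgroups G) (hF : F ∈ quadraticRootSubgroups G)
    (hn : ∀ e ∈ E, ∀ f ∈ F, IsNilpotent (((e : M →ₗ[k] M) - 1) * ((f : M →ₗ[k] M) - 1)))
    (hne : ⁅E, F⁆ ≠ ⊥) :
    (⁅E, F⁆ ∈ quadraticRootSubgroups G ∧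
      (∀ e ∈ E, e ≠ 1 → Subgroup.closure ((fun f : LinearMap.GeneralLinearGroup k M => e * f * e⁻¹ * f⁻¹) '' (F : Set (LinearMap.GeneralLinearGroup k M))) = ⁅E, F⁆) ∧
      (∀ f ∈ F, f ≠ 1 → Subgroup.closure ((fun e : LinearMap.GeneralLinearGroup k M => e * f * e⁻¹ * f⁻¹) '' (E : Set (LinearMap.GeneralLinearGroup k M))) = ⁅E, F⁆) ∧
      ⁅E ⊔ F, E ⊔ F⁆ ≠ ⊥ ∧ ⁅⁅E ⊔ F, E ⊔ F⁆, E ⊔ F⁆ = ⊥ ∧
      ((E ⊔ F : Subgroup (LinearMap.GeneralLinearGroup k M)) : Set (LinearMap.GeneralLinearGroup k M)) ⊆ quadraticUnipotentCore G ⁅E, F⁆) ∧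
    (∀ e ∈ E, ∀ f ∈ F, e ≠ 1 → f ≠ 1 → e * f ≠ f * e) := by
  rw [Ne, commutator_eq_bot_iff_forall] at hne
  push Not at hne
  obtain ⟨σ, hσE, τ, hτF, hστ⟩ := hne
  have hσ1 : σ ≠ 1 := by rintro rfl; simp at hστ
  have hτ1 : τ ≠ 1 := by rintro rfl; simp at hστ
  obtain ⟨hσ, rfl⟩ := eq_sameActionSubgroup hE hσ1 hσE
  obtain ⟨hτ, rfl⟩ := eq_sameActionSubgroup hF hτ1 hτF
  obtain ⟨lam, hlam, h1, h2, h3, h4, h5, h6, h7⟩ := unipotent_main hC hO hσ hτ (hn σ hσE τ hτF) hστ
  have hEF : ⁅sameActionSubgroup G σ, sameActionSubgroup G τ⁆ = sameActionSubgroup G lam := by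
    apply le_antisymm
    · rw [Subgroup.commutator_le]
      intro e he f hf
      rw [commutatorElement_def]
      exact h1 e he f hf
    · intro z hz
      obtain ⟨f, hf, rfl⟩ := h2 σ hσE hσ1 z hz
      have := Subgroup.commutator_mem_commutator (H₁ := sameActionSubgroup G σ) hσE hf
      rwa [commutatorElement_def] at this
  rw [hEF]
  refine ⟨⟨⟨lam, hlam, rfl⟩, ?_, ?_, ?_, ?_, h7⟩, h4⟩
  · intro e he he1
    exact closure_eq_of_surj (fun f hf => h1 e he f hf) (fun z hz => h2 e he he1 z hz)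
  · intro f hf hf1
    exact closure_eq_of_surj (fun e he => h1 e he f hf) (fun z hz => h3 f hf hf1 z hz)
  · intro h0
    have h8 : ⁅sameActionSubgroup G σ, sameActionSubgroup G τ⁆ ≤
        ⁅sameActionSubgroup G σ ⊔ sameActionSubgroup G τ, sameActionSubgroup G σ ⊔ sameActionSubgroup G τ⁆ :=
      Subgroup.commutator_mono le_sup_left le_sup_right
    rw [h0, le_bot_iff, hEF] at h8
    exact E_ne_bot hlam h8
  · rw [eq_bot_iff]
    have h8 : ⁅sameActionSubgroup G σ ⊔ sameActionSubgroup G τ, sameActionSubgroup G σ ⊔ sameActionSubgroup G τ⁆ ≤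
        sameActionSubgroup G lam :=
      commutator_sup_le (fun a ha b hb => E_comm hσ ha hb) (fun a ha b hb => E_comm hτ ha hb) h1 h5 h6
    refine (Subgroup.commutator_mono h8 le_rfl).trans ?_
    rw [commutator_eq_bot_iff_forall.2]
    intro z hz g hg
    exact comm_of_mem_sup (h5 z hz) (h6 z hz) hg

/-- S5066: the class two case. -/
theorem class_two_conclusion {E F : Subgroup (LinearMap.GeneralLinearGroup k M)}
    (hE : E ∈ quadraticRootSubgroups G) (hF : F ∈ quadraticRootSubgroups G)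
    (h2 : ⁅E ⊔ F, E ⊔ F⁆ ≠ ⊥ ∧ ⁅⁅E ⊔ F, E ⊔ F⁆, E ⊔ F⁆ = ⊥) :
    (∀ e ∈ E, ∀ f ∈ F, IsNilpotent (((e : M →ₗ[k] M) - 1) * ((f : M →ₗ[k] M) - 1))) ∧ ⁅E, F⁆ ≠ ⊥ := by
  obtain ⟨h2a, h2b⟩ := h2
  obtain ⟨σ, hσ, rfl⟩ := hE
  obtain ⟨τ, hτ, rfl⟩ := hF
  constructor
  · intro e he f hf
    refine nilpotent_of_class_two ((mem_E_iff hσ).1 he).1.sq ((mem_E_iff hτ).1 hf).1.sq ?_
    have hc : f * e * f⁻¹ * e⁻¹ ∈ ⁅sameActionSubgroup G σ ⊔ sameActionSubgroup G τ, sameActionSubgroup G σ ⊔ sameActionSubgroup G τ⁆ := by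
      have := Subgroup.commutator_mem_commutator (H₁ := sameActionSubgroup G σ ⊔ sameActionSubgroup G τ)
        (H₂ := sameActionSubgroup G σ ⊔ sameActionSubgroup G τ) (Subgroup.mem_sup_right hf) (Subgroup.mem_sup_left he)
      rwa [commutatorElement_def] at this
    have h3 := commutator_eq_bot_iff_forall.1 h2b _ hc e (Subgroup.mem_sup_left he)
    have h4 : f * e * f⁻¹ * e⁻¹ * e = f * e * f⁻¹ := by group
    rw [h4] at h3
    have h5 : e * (f * e * f⁻¹) = e * (f * e * f⁻¹ * e⁻¹) * e := by group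
    rw [h5, ← h3]
  · intro h0
    apply h2a
    rw [eq_bot_iff]
    rw [commutator_eq_bot_iff_forall] at h0
    refine commutator_sup_le (fun a ha b hb => E_comm hσ ha hb) (fun a ha b hb => E_comm hτ ha hb) ?_ ?_ ?_
    · intro a ha b hb
      rw [Subgroup.mem_bot, h0 a ha b hb]
      group
    · intro z hz a _
      rw [Subgroup.mem_bot.1 hz, one_mul, mul_one]
    · intro z hz a _
      rw [Subgroup.mem_bot.1 hz, one_mul, mul_one]

end Cfsg.Agent.H742
end
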