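/-
Quadratic pairs: Σ(G) is a set of abstract root subgroups of the group it generates; SL₂-subpairs (helper742).
-/
import Cfsg.Agent.H742.SubOf
import Cfsg.Agent.H733.Connected
import Cfsg.Agent.H742.HasOppOf
set_option linter.all false

-- part: H742/Fam
section
set_option autoImplicit false
open Cfsg

namespace Cfsg.Agent.H742

open Cfsg.Agent.H731 Cfsg.Agent.H733

variable {G : Type*} [Group G]

/-- `T` is a set of abstract root subgroups of the subgroup it generates. -/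
structure Fam (T : Set (Subgroup G)) : Prop where
  comm : ∀ A ∈ T, IsMulCommutative ↥A
  nb : ∀ A ∈ T, A ≠ ⊥
  conj : ∀ A ∈ T, ∀ g ∈ ⨆ B ∈ T, B, conjBy A g ∈ T
  pair : ∀ A ∈ T, ∀ B ∈ T, ⁅A, B⁆ = ⊥ ∨ IsRankOnePair A B ∨ RootCommutatorCase T A B

theorem commutator_le_gen {A B K : Subgroup G} (hA : A ≤ K) (hB : B ≤ K) : ⁅A, B⁆ ≤ K := by
  rw [Subgroup.commutator_le]
  intro a ha b hb
  rw [commutatorElement_def]
  exact K.mul_mem (K.mul_mem (K.mul_mem (hA ha) (hB hb)) (K.inv_mem (hA ha))) (K.inv_mem (hB hb))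

theorem closure_commutator_subgroupOf {B K : Subgroup G} (hB : B ≤ K) (a : ↥K) :
    (Subgroup.closure ((fun b : ↥K => a * b * a⁻¹ * b⁻¹) '' ((B.subgroupOf K : Subgroup ↥K) : Set ↥K))).map K.subtype =
      Subgroup.closure ((fun b : G => (a : G) * b * (a : G)⁻¹ * b⁻¹) '' (B : Set G)) := by
  rw [MonoidHom.map_closure]
  congr 1
  ext x
  constructor
  · rintro ⟨_, ⟨b, hb, rfl⟩, rfl⟩
    exact ⟨(b : G), hb, rfl⟩
  · rintro ⟨b, hb, rfl⟩
    exact ⟨_, ⟨⟨b, hB hb⟩, hb, rfl⟩, rfl⟩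

theorem closure_commutator_subgroupOf' {A K : Subgroup G} (hA : A ≤ K) (b : ↥K) :
    (Subgroup.closure ((fun a : ↥K => a * b * a⁻¹ * b⁻¹) '' ((A.subgroupOf K : Subgroup ↥K) : Set ↥K))).map K.subtype =
      Subgroup.closure ((fun a : G => a * (b : G) * a⁻¹ * (b : G)⁻¹) '' (A : Set G)) := by
  rw [MonoidHom.map_closure]
  congr 1
  ext x
  constructor
  · rintro ⟨_, ⟨a, ha, rfl⟩, rfl⟩
    exact ⟨(a : G), ha, rfl⟩
  · rintro ⟨a, ha, rfl⟩
    exact ⟨_, ⟨⟨a, hA ha⟩, ha, rfl⟩, rfl⟩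

theorem rcc_subgroupOf_iff {T : Set (Subgroup G)} {K : Subgroup G} (hT : ∀ A ∈ T, A ≤ K) {A B : Subgroup G}
    (hA : A ≤ K) (hB : B ≤ K) :
    RootCommutatorCase ((fun A : Subgroup G => A.subgroupOf K) '' T) (A.subgroupOf K) (B.subgroupOf K) ↔
      RootCommutatorCase T A B := by
  have hc := commutator_subgroupOf hA hB
  have hcle := commutator_le_gen hA hB
  constructor
  · rintro ⟨h1, h2, h3, h4⟩
    refine ⟨?_, ?_, ?_, ?_⟩
    · obtain ⟨C, hC, hCe⟩ := h1
      rw [hc] at hCe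
      have : C = ⁅A, B⁆ := (subgroupOf_inj_iff (hT C hC) hcle).1 hCe
      rwa [← this]
    · intro c hcc x hx
      have h5 := h2 ⟨c, hcle hcc⟩ (by rw [hc]; exact hcc) ⟨x, (sup_le hA hB) hx⟩ (by
        rw [sup_subgroupOf' hA hB]; exact hx)
      exact congrArg Subtype.val h5
    · intro a ha ha1
      have h5 := h3 ⟨a, hA ha⟩ ha (fun h => ha1 (congrArg Subtype.val h))
      have h6 := congrArg (Subgroup.map K.subtype) h5
      rw [closure_commutator_subgroupOf hB, hc, map_subtype_subgroupOf hcle] at h6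
      exact h6
    · intro b hb hb1
      have h5 := h4 ⟨b, hB hb⟩ hb (fun h => hb1 (congrArg Subtype.val h))
      have h6 := congrArg (Subgroup.map K.subtype) h5
      rw [closure_commutator_subgroupOf' hA, hc, map_subtype_subgroupOf hcle] at h6
      exact h6
  · rintro ⟨h1, h2, h3, h4⟩
    refine ⟨?_, ?_, ?_, ?_⟩
    · exact ⟨⁅A, B⁆, h1, hc.symm⟩
    · intro c hcc x hx
      rw [hc] at hcc
      rw [sup_subgroupOf' hA hB] at hx
      exact Subtype.ext (h2 _ hcc _ hx)
    · intro a ha ha1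
      apply Subgroup.map_injective K.subtype_injective
      rw [closure_commutator_subgroupOf hB, hc, map_subtype_subgroupOf hcle]
      exact h3 _ ha (fun h => ha1 (Subtype.ext h))
    · intro b hb hb1
      apply Subgroup.map_injective K.subtype_injective
      rw [closure_commutator_subgroupOf' hA, hc, map_subtype_subgroupOf hcle]
      exact h4 _ hb (fun h => hb1 (Subtype.ext h))

/-- the family inside the subgroup it generates -/
def famIn (T : Set (Subgroup G)) : Set (Subgroup ↥(⨆ B ∈ T, B)) :=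
  (fun A : Subgroup G => A.subgroupOf (⨆ B ∈ T, B)) '' T

theorem Fam.rootSet {T : Set (Subgroup G)} (h : Fam T) : IsRootSubgroupSet (famIn T) where
  commutative := by
    rintro _ ⟨A, hA, rfl⟩
    exact subgroupOf_comm (h.comm A hA)
  ne_bot := by
    rintro _ ⟨A, hA, rfl⟩
    exact subgroupOf_ne_bot (le_gen hA) (h.nb A hA)
  generates := subgroupOf_generates T
  conj_mem := by
    rintro _ ⟨A, hA, rfl⟩ g
    exact ⟨conjBy A (g : G), h.conj A hA g g.2, (conjBy_subgroupOf A g).symm⟩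
  pair := by
    rintro _ ⟨A, hA, rfl⟩ _ ⟨B, hB, rfl⟩
    rcases h.pair A hA B hB with h1 | h1 | h1
    · exact Or.inl ((commutator_subgroupOf_eq_bot_iff (le_gen hA) (le_gen hB)).2 h1)
    · exact Or.inr (Or.inl ((IsRankOnePair_subgroupOf_iff (le_gen hA) (le_gen hB)).2 h1))
    · exact Or.inr (Or.inr ((rcc_subgroupOf_iff (fun A hA => le_gen hA) (le_gen hA) (le_gen hB)).2 h1))

theorem reach_of_subgroupOf {T : Set (Subgroup G)} {X Y : Subgroup ↥(⨆ B ∈ T, B)}
    (h : Relation.ReflTransGen (FAdj (famIn T)) X Y) :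
    Relation.ReflTransGen (FAdj T) (X.map (⨆ B ∈ T, B).subtype) (Y.map (⨆ B ∈ T, B).subtype) := by
  induction h with
  | refl => exact Relation.ReflTransGen.refl
  | tail _ h2 ih =>
    refine ih.tail ?_
    obtain ⟨⟨A, hA, rfl⟩, ⟨B, hB, rfl⟩, h3⟩ := h2
    simp only at h3 ⊢
    rw [map_subtype_subgroupOf (le_gen hA), map_subtype_subgroupOf (le_gen hB)]
    exact ⟨hA, hB, (IsRankOnePair_subgroupOf_iff (le_gen hA) (le_gen hB)).1 h3⟩

theorem reach_famIn_iff {T : Set (Subgroup G)} {A B : Subgroup G} (hA : A ∈ T) (hB : B ∈ T) :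
    Relation.ReflTransGen (FAdj (famIn T)) (A.subgroupOf (⨆ B ∈ T, B)) (B.subgroupOf (⨆ B ∈ T, B)) ↔
      Relation.ReflTransGen (FAdj T) A B := by
  constructor
  · intro h
    have := reach_of_subgroupOf h
    rwa [map_subtype_subgroupOf (le_gen hA), map_subtype_subgroupOf (le_gen hB)] at this
  · exact reach_subgroupOf

theorem fAdj_partner_famIn {T : Set (Subgroup G)} (hF : ∀ A ∈ T, ∃ B ∈ T, IsRankOnePair A B) :
    ∀ A ∈ famIn T, ∃ B ∈ famIn T, IsRankOnePair A B := by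
  rintro _ ⟨A, hA, rfl⟩
  obtain ⟨B, hB, h⟩ := hF A hA
  exact ⟨_, ⟨B, hB, rfl⟩, (IsRankOnePair_subgroupOf_iff (le_gen hA) (le_gen hB)).2 h⟩

theorem Fam.reach_or_commute {T : Set (Subgroup G)} (h : Fam T) (hF : ∀ A ∈ T, ∃ B ∈ T, IsRankOnePair A B)
    {A B : Subgroup G} (hA : A ∈ T) (hB : B ∈ T) : Relation.ReflTransGen (FAdj T) A B ∨ ⁅A, B⁆ = ⊥ := by
  rcases H733.reach_or_commute h.rootSet (fAdj_partner_famIn hF) ⟨A, hA, rfl⟩ ⟨B, hB, rfl⟩ with h1 | h1
  · exact Or.inl ((reach_famIn_iff hA hB).1 h1)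
  · exact Or.inr ((commutator_subgroupOf_eq_bot_iff (le_gen hA) (le_gen hB)).1 h1)

theorem Fam.reach_conjBy {T : Set (Subgroup G)} (h : Fam T) (hF : ∀ A ∈ T, ∃ B ∈ T, IsRankOnePair A B)
    {A : Subgroup G} (hA : A ∈ T) {g : G} (hg : g ∈ ⨆ B ∈ T, B) : Relation.ReflTransGen (FAdj T) A (conjBy A g) := by
  have h1 := H733.reach_conjBy h.rootSet (fAdj_partner_famIn hF) ⟨A, hA, rfl⟩ ⟨g, hg⟩
  simp only at h1
  rw [conjBy_subgroupOf] at h1
  exact (reach_famIn_iff hA (h.conj A hA g hg)).1 h1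

theorem Fam.reach_commutator {T : Set (Subgroup G)} (h : Fam T) (hF : ∀ A ∈ T, ∃ B ∈ T, IsRankOnePair A B)
    {A B : Subgroup G} (hA : A ∈ T) (hB : B ∈ T) (hAB : RootCommutatorCase T A B) :
    Relation.ReflTransGen (FAdj T) A ⁅A, B⁆ := by
  have hS := h.rootSet
  have hF' := fAdj_partner_famIn hF
  have hA' : A.subgroupOf (⨆ B ∈ T, B) ∈ famIn T := ⟨A, hA, rfl⟩
  have hc := (rcc_subgroupOf_iff (K := ⨆ B ∈ T, B) (fun A hA => le_gen hA) (le_gen hA) (le_gen hB)).2 hAB
  have h1 := H733.rcc_linePartners hS hA' (hF' _ hA') hc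
  have h2 := H733.reach_of_linePartners hS hc.1 (hF' _ hc.1) (hF' _ hA') h1
  have h3 := H733.reach_symm h2
  rw [commutator_subgroupOf (le_gen hA) (le_gen hB)] at h3
  exact (reach_famIn_iff hA hAB.1).1 h3

/-- the component of a member -/
theorem mem_componentOf {T : Set (Subgroup G)} {A B : Subgroup G} :
    B ∈ componentOf (FAdj T) T A ↔ B ∈ T ∧ Relation.ReflTransGen (FAdj T) A B := Iff.rfl

theorem self_mem_componentOf {T : Set (Subgroup G)} {A : Subgroup G} (hA : A ∈ T) : A ∈ componentOf (FAdj T) T A :=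
  ⟨hA, Relation.ReflTransGen.refl⟩

theorem componentOf_eq {T : Set (Subgroup G)} {A B : Subgroup G} (hB : B ∈ componentOf (FAdj T) T A) :
    componentOf (FAdj T) T B = componentOf (FAdj T) T A := by
  ext C
  constructor
  · intro h
    exact ⟨h.1, hB.2.trans h.2⟩
  · intro h
    exact ⟨h.1, (H733.reach_symm hB.2).trans h.2⟩

theorem componentOf_subset {T : Set (Subgroup G)} {A : Subgroup G} : componentOf (FAdj T) T A ⊆ T := fun _ h => h.1

theorem gen_componentOf_le {T : Set (Subgroup G)} {A : Subgroup G} :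
    (⨆ B ∈ componentOf (FAdj T) T A, B) ≤ ⨆ B ∈ T, B :=
  iSup₂_le fun _ hB => le_gen hB.1

theorem rcc_of_subset {T U : Set (Subgroup G)} {A B : Subgroup G} (h : RootCommutatorCase T A B) (h' : ⁅A, B⁆ ∈ U) :
    RootCommutatorCase U A B := ⟨h', h.2⟩

/-- A component is again a family. -/
theorem Fam.component {T : Set (Subgroup G)} (h : Fam T) (hF : ∀ A ∈ T, ∃ B ∈ T, IsRankOnePair A B)
    {A : Subgroup G} : Fam (componentOf (FAdj T) T A) where
  comm B hB := h.comm B hB.1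
  nb B hB := h.nb B hB.1
  conj B hB g hg := ⟨h.conj B hB.1 g (gen_componentOf_le hg), hB.2.trans (h.reach_conjBy hF hB.1 (gen_componentOf_le hg))⟩
  pair B hB C hC := by
    rcases h.pair B hB.1 C hC.1 with h1 | h1 | h1
    · exact Or.inl h1
    · exact Or.inr (Or.inl h1)
    · exact Or.inr (Or.inr (rcc_of_subset h1 ⟨h1.1, hB.2.trans (h.reach_commutator hF hB.1 hC.1 h1)⟩))

theorem reach_in_component {T : Set (Subgroup G)} {A B C : Subgroup G} (hB : B ∈ componentOf (FAdj T) T A)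
    (h : Relation.ReflTransGen (FAdj T) B C) :
    Relation.ReflTransGen (FAdj (componentOf (FAdj T) T A)) B C ∧ C ∈ componentOf (FAdj T) T A := by
  induction h with
  | refl => exact ⟨Relation.ReflTransGen.refl, hB⟩
  | @tail D E h1 h2 ih =>
    have hE : E ∈ componentOf (FAdj T) T A := ⟨h2.2.1, ih.2.2.tail h2⟩
    exact ⟨ih.1.tail ⟨ih.2, hE, h2.2.2⟩, hE⟩

theorem component_connected {T : Set (Subgroup G)} {A : Subgroup G} :
    IsConnectedFamily (FAdj (componentOf (FAdj T) T A)) (componentOf (FAdj T) T A) := by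
  intro B hB C hC
  exact (reach_in_component hB ((H733.reach_symm hB.2).trans hC.2)).1

theorem component_partner {T : Set (Subgroup G)} (hF : ∀ A ∈ T, ∃ B ∈ T, IsRankOnePair A B) {A : Subgroup G} :
    ∀ B ∈ componentOf (FAdj T) T A, ∃ C ∈ componentOf (FAdj T) T A, IsRankOnePair B C := by
  intro B hB
  obtain ⟨C, hC, h⟩ := hF B hB.1
  exact ⟨C, ⟨hC, hB.2.tail ⟨hB.1, hC, h⟩⟩, h⟩

/-- connected families with partners are classes -/
theorem Fam.rootClass {T : Set (Subgroup G)} (h : Fam T) (hF : ∀ A ∈ T, ∃ B ∈ T, IsRankOnePair A B)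
    (hne : T.Nonempty) (hcon : IsConnectedFamily (FAdj T) T) : IsRootSubgroupClass (famIn T) := by
  refine ⟨h.rootSet, ?_⟩
  have hcon' : IsConnectedFamily (FAdj (famIn T)) (famIn T) := by
    rintro _ ⟨A, hA, rfl⟩ _ ⟨B, hB, rfl⟩
    exact reach_subgroupOf (hcon A hA B hB)
  obtain ⟨A, hA⟩ := hne
  have hA' : A.subgroupOf (⨆ B ∈ T, B) ∈ famIn T := ⟨A, hA, rfl⟩
  obtain ⟨B, hB, hAB⟩ := fAdj_partner_famIn hF _ hA'
  exact (class_of_connected ⟨_, hA', B, hB, hAB.ne⟩ hcon').1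

/-- different components commute -/
theorem Fam.commute_of_not_reach {T : Set (Subgroup G)} (h : Fam T) (hF : ∀ A ∈ T, ∃ B ∈ T, IsRankOnePair A B)
    {A B : Subgroup G} (hne : componentOf (FAdj T) T A ≠ componentOf (FAdj T) T B) {C D : Subgroup G}
    (hC : C ∈ componentOf (FAdj T) T A) (hD : D ∈ componentOf (FAdj T) T B) : ⁅C, D⁆ = ⊥ := by
  rcases h.reach_or_commute hF hC.1 hD.1 with h1 | h1
  · exfalso
    apply hne
    rw [← componentOf_eq hC, ← componentOf_eq hD]
    exact (componentOf_eq (T := T) (A := C) (B := D) ⟨hD.1, h1⟩).symm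
  · exact h1

theorem disjoint_components {T : Set (Subgroup G)} {A B : Subgroup G}
    (hne : componentOf (FAdj T) T A ≠ componentOf (FAdj T) T B) :
    Disjoint (componentOf (FAdj T) T A) (componentOf (FAdj T) T B) := by
  rw [Set.disjoint_left]
  intro C hC hC'
  exact hne ((componentOf_eq hC).symm.trans (componentOf_eq hC'))

/-- pairwise commuting families generate commuting subgroups -/
theorem commutator_iSup_eq_bot {T U : Set (Subgroup G)} (h : ∀ A ∈ T, ∀ B ∈ U, ⁅A, B⁆ = ⊥) :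
    ⁅(⨆ A ∈ T, A), (⨆ B ∈ U, B)⁆ = ⊥ := by
  rw [Subgroup.commutator_eq_bot_iff_le_centralizer]
  refine iSup₂_le fun A hA => ?_
  rw [Subgroup.le_centralizer_iff]
  refine iSup₂_le fun B hB => ?_
  rw [← Subgroup.commutator_eq_bot_iff_le_centralizer, Subgroup.commutator_comm]
  exact h A hA B hB

end Cfsg.Agent.H742
end

-- part: H742/SigmaRoot
section
set_option autoImplicit false
set_option linter.unusedSimpArgs false
open Cfsg

namespace Cfsg.Agent.H742

open Cfsg.Agent.H740 Cfsg.Agent.H731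

/-! ### SL₂ from an inverse pair -/

section sl

variable {k : Type*} [Field k] {M : Type*} [AddCommGroup M] [Module k M]
variable {G : Subgroup (LinearMap.GeneralLinearGroup k M)}

/-- the endomorphism attached to a 2x2 matrix -/
def slMap (s t : M →ₗ[k] M) (g : Matrix.SpecialLinearGroup (Fin 2) k) : M →ₗ[k] M :=
  (1 - (s * t + t * s)) + ((g : Matrix (Fin 2) (Fin 2) k) 0 0 • (s * t) + (g : Matrix (Fin 2) (Fin 2) k) 0 1 • s +
    (g : Matrix (Fin 2) (Fin 2) k) 1 0 • t + (g : Matrix (Fin 2) (Fin 2) k) 1 1 • (t * s))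

theorem Inv.slMap_one {s t : M →ₗ[k] M} (_h : Inv s t) : slMap s t 1 = 1 := by
  rw [slMap, one_00, one_01, one_10, one_11]
  simp only [one_smul, zero_smul, add_zero]
  abel

theorem Inv.slMap_mul {s t : M →ₗ[k] M} (h : Inv s t) (g g' : Matrix.SpecialLinearGroup (Fin 2) k) :
    slMap s t (g * g') = slMap s t g * slMap s t g' := by
  have t11 : (s * t) * (s * t) = s * t := by rw [← mul_assoc, h.sts]
  have t12 : (s * t) * s = s := h.sts
  have t13 : (s * t) * t = 0 := by rw [mul_assoc, h.tt, mul_zero]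
  have t14 : (s * t) * (t * s) = 0 := by rw [← mul_assoc, t13, zero_mul]
  have t21 : s * (s * t) = 0 := by rw [← mul_assoc, h.ss, zero_mul]
  have t22 : s * s = 0 := h.ss
  have t24 : s * (t * s) = s := by rw [← mul_assoc, h.sts]
  have t31 : t * (s * t) = t := by rw [← mul_assoc, h.tst]
  have t33 : t * t = 0 := h.tt
  have t34 : t * (t * s) = 0 := by rw [← mul_assoc, h.tt, zero_mul]
  have t41 : (t * s) * (s * t) = 0 := by rw [mul_assoc, t21, mul_zero]
  have t42 : (t * s) * s = 0 := by rw [mul_assoc, h.ss, mul_zero]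
  have t43 : (t * s) * t = t := h.tst
  have t44 : (t * s) * (t * s) = t * s := by rw [mul_assoc, t24]
  simp only [slMap, sl2_mul]
  generalize (g : Matrix (Fin 2) (Fin 2) k) 0 0 = a
  generalize (g : Matrix (Fin 2) (Fin 2) k) 0 1 = b
  generalize (g : Matrix (Fin 2) (Fin 2) k) 1 0 = c
  generalize (g : Matrix (Fin 2) (Fin 2) k) 1 1 = d
  generalize (g' : Matrix (Fin 2) (Fin 2) k) 0 0 = a'
  generalize (g' : Matrix (Fin 2) (Fin 2) k) 0 1 = b'
  generalize (g' : Matrix (Fin 2) (Fin 2) k) 1 0 = c'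
  generalize (g' : Matrix (Fin 2) (Fin 2) k) 1 1 = d'
  simp only [mul_add, add_mul, mul_sub, sub_mul, one_mul, mul_one, smul_mul_assoc, mul_smul_comm, t11, t12, t13, t14,
    t21, t22, t24, t31, t33, t34, t41, t42, t43, t44, smul_zero, add_zero, zero_add]
  module

/-- the representation of SL₂ attached to an inverse pair -/
noncomputable def Inv.slHom {s t : M →ₗ[k] M} (h : Inv s t) :
    Matrix.SpecialLinearGroup (Fin 2) k →* LinearMap.GeneralLinearGroup k M :=
  MonoidHom.toHomUnits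
    { toFun := slMap s t
      map_one' := h.slMap_one
      map_mul' := h.slMap_mul }

theorem Inv.coe_slHom {s t : M →ₗ[k] M} (h : Inv s t) (g : Matrix.SpecialLinearGroup (Fin 2) k) :
    (h.slHom g : M →ₗ[k] M) = slMap s t g := rfl

theorem Inv.slHom_up {s t : M →ₗ[k] M} (h : Inv s t) (c : k) : (h.slHom (up k c) : M →ₗ[k] M) = 1 + c • s := by
  rw [h.coe_slHom, slMap, up_00, up_01, up_10, up_11]
  module

theorem Inv.slHom_lo {s t : M →ₗ[k] M} (h : Inv s t) (c : k) : (h.slHom (lo k c) : M →ₗ[k] M) = 1 + c • t := by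
  rw [h.coe_slHom, slMap, lo_00, lo_01, lo_10, lo_11]
  module

theorem Inv.slHom_ker {s t : M →ₗ[k] M} (h : Inv s t) (hs : s ≠ 0) : h.slHom.ker = ⊥ := by
  rw [Subgroup.eq_bot_iff_forall]
  intro g hg
  rw [MonoidHom.mem_ker] at hg
  have h1 := congrArg Units.val hg
  rw [h.coe_slHom, slMap, Units.val_one] at h1
  set a := (g : Matrix (Fin 2) (Fin 2) k) 0 0 with ha
  set b := (g : Matrix (Fin 2) (Fin 2) k) 0 1 with hb
  set c := (g : Matrix (Fin 2) (Fin 2) k) 1 0 with hc
  set d := (g : Matrix (Fin 2) (Fin 2) k) 1 1 with hd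
  have t11 : (s * t) * (s * t) = s * t := by rw [← mul_assoc, h.sts]
  have t12 : (s * t) * s = s := h.sts
  have t13 : (s * t) * t = 0 := by rw [mul_assoc, h.tt, mul_zero]
  have t14 : (s * t) * (t * s) = 0 := by rw [← mul_assoc, t13, zero_mul]
  have t21 : s * (s * t) = 0 := by rw [← mul_assoc, h.ss, zero_mul]
  have t22 : s * s = 0 := h.ss
  have t24 : s * (t * s) = s := by rw [← mul_assoc, h.sts]
  have t31 : t * (s * t) = t := by rw [← mul_assoc, h.tst]
  have t33 : t * t = 0 := h.tt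
  have t34 : t * (t * s) = 0 := by rw [← mul_assoc, h.tt, zero_mul]
  have t41 : (t * s) * (s * t) = 0 := by rw [mul_assoc, t21, mul_zero]
  have t42 : (t * s) * s = 0 := by rw [mul_assoc, h.ss, mul_zero]
  have t43 : (t * s) * t = t := h.tst
  have t44 : (t * s) * (t * s) = t * s := by rw [mul_assoc, t24]
  have key : ∀ x y : M →ₗ[k] M, x * (1 - (s * t + t * s) + (a • (s * t) + b • s + c • t + d • (t * s))) * y = x * y := by
    intro x y; rw [h1, mul_one]
  -- coefficient of `s`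
  have h2 : ∀ e : k, e • s = 0 → e = 0 := by
    intro e he
    by_contra hne
    exact hs (by rw [← one_smul k s, ← inv_mul_cancel₀ hne, mul_smul, he, smul_zero])
  -- a = 1 : (s t) g s = s
  have ka := key (s * t) s
  simp only [mul_add, add_mul, mul_sub, sub_mul, one_mul, mul_one, smul_mul_assoc, mul_smul_comm, t11, t12, t13, t14,
    t21, t22, t24, t31, t33, t34, t41, t42, t43, t44, smul_zero, add_zero, zero_add, sub_zero, zero_mul, mul_zero,
    sub_self] at ka
  have kb := key (s * t) (t * s)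
  simp only [mul_add, add_mul, mul_sub, sub_mul, one_mul, mul_one, smul_mul_assoc, mul_smul_comm, t11, t12, t13, t14,
    t21, t22, t24, t31, t33, t34, t41, t42, t43, t44, smul_zero, add_zero, zero_add, sub_zero, zero_mul, mul_zero,
    sub_self] at kb
  have kc := key s s
  simp only [mul_add, add_mul, mul_sub, sub_mul, one_mul, mul_one, smul_mul_assoc, mul_smul_comm, t11, t12, t13, t14,
    t21, t22, t24, t31, t33, t34, t41, t42, t43, t44, smul_zero, add_zero, zero_add, sub_zero, zero_mul, mul_zero,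
    sub_self] at kc
  have kd := key s (t * s)
  simp only [mul_add, add_mul, mul_sub, sub_mul, one_mul, mul_one, smul_mul_assoc, mul_smul_comm, t11, t12, t13, t14,
    t21, t22, t24, t31, t33, t34, t41, t42, t43, t44, smul_zero, add_zero, zero_add, sub_zero, zero_mul, mul_zero,
    sub_self] at kd
  have ha1 : a = 1 := by
    have : (a - 1) • s = 0 := by rw [sub_smul, one_smul, ka, sub_self]
    exact sub_eq_zero.1 (h2 _ this)
  have hb1 : b = 0 := h2 _ kb
  have hc1 : c = 0 := h2 _ kc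
  have hd1 : d = 1 := by
    have : (d - 1) • s = 0 := by rw [sub_smul, one_smul, kd, sub_self]
    exact sub_eq_zero.1 (h2 _ this)
  apply sl2_ext
  · rw [one_00]; exact ha1
  · rw [one_01]; exact hb1
  · rw [one_10]; exact hc1
  · rw [one_11]; exact hd1

/-- the one-parameter group `{1 + c s}` -/
def lineGrp (s : M →ₗ[k] M) (hs : s * s = 0) : Subgroup (LinearMap.GeneralLinearGroup k M) where
  carrier := {x | ∃ c : k, (x : M →ₗ[k] M) = 1 + c • s}
  one_mem' := ⟨0, by rw [zero_smul, add_zero, Units.val_one]⟩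
  mul_mem' := by
    rintro x y ⟨c, hc⟩ ⟨d, hd⟩
    refine ⟨c + d, ?_⟩
    rw [Units.val_mul, hc, hd]
    simp only [mul_add, add_mul, one_mul, mul_one, smul_mul_assoc, mul_smul_comm, hs, smul_zero, add_zero, add_smul]
    abel
  inv_mem' := by
    rintro x ⟨c, hc⟩
    refine ⟨-c, ?_⟩
    have h1 : (x : M →ₗ[k] M) * (1 + (-c) • s) = 1 := by
      rw [hc, mul_add, mul_one, add_mul, one_mul, smul_mul_assoc, mul_smul_comm, hs, smul_zero, smul_zero, add_zero,
        neg_smul, add_assoc, add_neg_cancel, add_zero]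
    have h2 : ((x⁻¹ : LinearMap.GeneralLinearGroup k M) : M →ₗ[k] M) * (x : M →ₗ[k] M) = 1 := Units.inv_mul x
    calc ((x⁻¹ : LinearMap.GeneralLinearGroup k M) : M →ₗ[k] M) =
        ((x⁻¹ : LinearMap.GeneralLinearGroup k M) : M →ₗ[k] M) * ((x : M →ₗ[k] M) * (1 + (-c) • s)) := by rw [h1, mul_one]
      _ = 1 + (-c) • s := by rw [← mul_assoc, h2, one_mul]

theorem mem_lineGrp {s : M →ₗ[k] M} {hs : s * s = 0} {x : LinearMap.GeneralLinearGroup k M} :
    x ∈ lineGrp s hs ↔ ∃ c : k, (x : M →ₗ[k] M) = 1 + c • s := Iff.rfl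

/-- `⟨1 + k s, 1 + k t⟩ ≅ SL₂(k)` for an inverse pair. -/
theorem Inv.isPSL2PairOver {s t : M →ₗ[k] M} (h : Inv s t) (hs : s ≠ 0) :
    IsPSL2PairOver k (lineGrp s h.ss) (lineGrp t h.tt) := by
  have hU : (upperUnipotentSL2 k).map h.slHom = lineGrp s h.ss := by
    ext x
    constructor
    · rintro ⟨u, hu, rfl⟩
      obtain ⟨c, rfl⟩ := mem_upper_iff.1 hu
      exact ⟨c, h.slHom_up c⟩
    · rintro ⟨c, hc⟩
      exact ⟨up k c, up_mem c, Units.ext ((h.slHom_up c).trans hc.symm)⟩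
  have hL : (lowerUnipotentSL2 k).map h.slHom = lineGrp t h.tt := by
    ext x
    constructor
    · rintro ⟨u, hu, rfl⟩
      obtain ⟨c, rfl⟩ := mem_lower_iff.1 hu
      exact ⟨c, h.slHom_lo c⟩
    · rintro ⟨c, hc⟩
      exact ⟨lo k c, lo_mem c, Units.ext ((h.slHom_lo c).trans hc.symm)⟩
  refine ⟨h.slHom, ?_, ?_, hU, hL⟩
  · rw [MonoidHom.range_eq_map, ← lower_sup_upper, Subgroup.map_sup, hU, hL, sup_comm]
  · rw [h.slHom_ker hs]
    exact bot_le

theorem three_lt_card (hk2 : ringChar k ≠ 2) (hk3 : Nat.card k ≠ 3) : 3 < ENat.card k := by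
  have h2 : (2 : k) ≠ 0 := Ring.two_ne_zero hk2
  by_cases hf : Finite k
  · have : Fintype k := Fintype.ofFinite k
    rw [ENat.card_eq_coe_natCard]
    have h0 : (0 : k) ≠ 1 := zero_ne_one
    have h1 : (0 : k) ≠ -1 := fun h => h0 (by simpa using congrArg Neg.neg h)
    have h3 : (1 : k) ≠ -1 := fun h => h2 (by linear_combination h)
    have h4 : 3 ≤ Nat.card k := by
      classical
      have h5 : ({0, 1, -1} : Finset k).card = 3 := by
        rw [Finset.card_insert_of_notMem, Finset.card_insert_of_notMem, Finset.card_singleton]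
        · simpa using h3
        · simp only [Finset.mem_insert, Finset.mem_singleton, not_or]
          exact ⟨h0, h1⟩
      rw [← h5, Nat.card_eq_fintype_card]
      exact Finset.card_le_univ _
    have h6 : 3 < Nat.card k := lt_of_le_of_ne h4 (Ne.symm hk3)
    exact_mod_cast h6
  · rw [not_finite_iff_infinite] at hf
    rw [ENat.card_eq_top_of_infinite]
    exact ENat.natCast_lt_top 3

end sl

variable {k : Type*} [Field k] {M : Type*} [AddCommGroup M] [Module k M] [FiniteDimensional k M]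
variable {G : Subgroup (LinearMap.GeneralLinearGroup k M)}

/-! ### Σ(G) is a family -/

theorem gen_sigma_le : (⨆ A ∈ quadraticRootSubgroups G, A) ≤ G := by
  refine iSup₂_le ?_
  rintro _ ⟨σ, hσ, rfl⟩
  exact sameActionSubgroup_le hσ

theorem unip_or_opp (hC : Core G) {σ τ : LinearMap.GeneralLinearGroup k M} (hσ : σ ∈ minimalQuadraticElements G)
    (hτ : τ ∈ minimalQuadraticElements G) (hn : IsNilpotent (((σ : M →ₗ[k] M) - 1) * ((τ : M →ₗ[k] M) - 1))) :
    ∀ e ∈ sameActionSubgroup G σ, ∀ f ∈ sameActionSubgroup G τ,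
      IsNilpotent (((e : M →ₗ[k] M) - 1) * ((f : M →ₗ[k] M) - 1)) := by
  intro e he f hf
  by_cases he1 : e = 1
  · rw [he1, Units.val_one, sub_self, zero_mul]; exact IsNilpotent.zero
  by_cases hf1 : f = 1
  · rw [hf1, Units.val_one, sub_self, mul_zero]; exact IsNilpotent.zero
  have hem := mem_minimal_of_mem hσ he he1
  have hfm := mem_minimal_of_mem hτ hf hf1
  refine (hC.not_isNilpotent_congr (mem_minimalQuadraticElements_iff.1 hσ) (mem_minimalQuadraticElements_iff.1 hτ)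
    (mem_minimalQuadraticElements_iff.1 hem) (mem_minimalQuadraticElements_iff.1 hfm) ?_ ?_).1 hn
  · exact ⟨(ker_eq_of_mem hσ he he1).symm, (range_eq_of_mem hσ he he1).symm⟩
  · exact ⟨(ker_eq_of_mem hτ hf hf1).symm, (range_eq_of_mem hτ hf hf1).symm⟩

theorem sigma_fam (hC : Core G) (hO : HasOpp G) : Fam (quadraticRootSubgroups G) where
  comm := by
    rintro _ ⟨σ, hσ, rfl⟩
    exact E_isMulCommutative hσ
  nb := by
    rintro _ ⟨σ, hσ, rfl⟩
    exact E_ne_bot hσ
  conj A hA g hg := conjBy_mem_quadraticRootSubgroups hA (gen_sigma_le hg)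
  pair := by
    intro A hA B hB
    obtain ⟨σ, hσ, rfl⟩ := id hA
    obtain ⟨τ, hτ, rfl⟩ := id hB
    by_cases hn : IsNilpotent (((σ : M →ₗ[k] M) - 1) * ((τ : M →ₗ[k] M) - 1))
    · have hn' := unip_or_opp hC hσ hτ hn
      by_cases hne : ⁅sameActionSubgroup G σ, sameActionSubgroup G τ⁆ = ⊥
      · exact Or.inl hne
      · right; right
        obtain ⟨⟨h1, h2, h3, h4, h5, h6⟩, -⟩ := unipotent_conclusion hC hO hA hB hn' hne
        refine ⟨h1, ?_, h2, h3⟩
        intro c hc x hx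
        refine commutator_eq_bot_iff_forall.1 h5 c ?_ x hx
        exact Subgroup.commutator_mono le_sup_left le_sup_right hc
    · exact Or.inr (Or.inl (rankOnePair_of_not_nilpotent hC hσ hτ hn).1)

/-- no isolated vertices -/
theorem sigma_partner (hC : Core G) (hO : HasOpp G) :
    ∀ A ∈ quadraticRootSubgroups G, ∃ B ∈ quadraticRootSubgroups G, IsRankOnePair A B := by
  rintro _ ⟨σ, hσ, rfl⟩
  obtain ⟨g, hg, hn⟩ := hO _ (mem_minimalQuadraticElements_iff.1 hσ)
  refine ⟨sameActionSubgroup G (g * σ * g⁻¹), ⟨_, conj_mem_minimal hσ hg, rfl⟩, ?_⟩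
  refine (rankOnePair_of_not_nilpotent hC hσ (conj_mem_minimal hσ hg) ?_).1
  rw [coe_conj_sub_one]
  exact hn

/-- rank one pairs are not nilpotent pairs -/
theorem not_nilpotent_of_rankOne (hC : Core G) (hO : HasOpp G) {σ τ : LinearMap.GeneralLinearGroup k M}
    (hσ : σ ∈ minimalQuadraticElements G) (hτ : τ ∈ minimalQuadraticElements G)
    (h : IsRankOnePair (sameActionSubgroup G σ) (sameActionSubgroup G τ)) :
    ¬ IsNilpotent (((σ : M →ₗ[k] M) - 1) * ((τ : M →ₗ[k] M) - 1)) := by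
  intro hn
  have hn' := unip_or_opp hC hσ hτ hn
  have hne : ⁅sameActionSubgroup G σ, sameActionSubgroup G τ⁆ ≠ ⊥ := rankOne_not_commute h
  obtain ⟨⟨h1, h2, h3, h4, h5, h6⟩, -⟩ := unipotent_conclusion hC hO ⟨σ, hσ, rfl⟩ ⟨τ, hτ, rfl⟩ hn' hne
  obtain ⟨a, ha, ha1⟩ := rankOne_exists_left h
  obtain ⟨b, hb, hb1⟩ := rankOne_exists_right h
  refine Cfsg.Agent.H733.rankOne_conj_not_comm h ha ha1 hb hb1 hb hb1 ?_
  have h7 : a * b * a⁻¹ * b⁻¹ ∈ ⁅sameActionSubgroup G σ ⊔ sameActionSubgroup G τ,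
      sameActionSubgroup G σ ⊔ sameActionSubgroup G τ⁆ := by
    have := Subgroup.commutator_mem_commutator (H₁ := sameActionSubgroup G σ ⊔ sameActionSubgroup G τ)
      (H₂ := sameActionSubgroup G σ ⊔ sameActionSubgroup G τ) (Subgroup.mem_sup_left ha) (Subgroup.mem_sup_right hb)
    rwa [commutatorElement_def] at this
  have h8 := commutator_eq_bot_iff_forall.1 h5 _ h7 b (Subgroup.mem_sup_right hb)
  calc a * b * a⁻¹ * b = (a * b * a⁻¹ * b⁻¹ * b) * b := by group
    _ = (b * (a * b * a⁻¹ * b⁻¹)) * b := by rw [h8]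
    _ = b * (a * b * a⁻¹) := by group

theorem sigma_special (hk2 : ringChar k ≠ 2) (hC : Core G) (hO : HasOpp G) {A B : Subgroup (LinearMap.GeneralLinearGroup k M)}
    (hA : A ∈ quadraticRootSubgroups G) (hB : B ∈ quadraticRootSubgroups G) (h : IsRankOnePair A B) :
    IsSpecialRankOnePair A B := by
  obtain ⟨σ, hσ, rfl⟩ := hA
  obtain ⟨τ, hτ, rfl⟩ := hB
  exact (opposite_case hk2 hC hσ hτ (not_nilpotent_of_rankOne hC hO hσ hτ h)).1

/-- SL₂-subpairs -/
theorem sigma_psl2 (hC : Core G) (hO : HasOpp G) {A B : Subgroup (LinearMap.GeneralLinearGroup k M)}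
    (hA : A ∈ quadraticRootSubgroups G) (hB : B ∈ quadraticRootSubgroups G) (h : IsRankOnePair A B) :
    ∃ A₀ B₀ : Subgroup (LinearMap.GeneralLinearGroup k M), A₀ ≤ A ∧ B₀ ≤ B ∧ IsPSL2PairOver k A₀ B₀ := by
  obtain ⟨σ, hσ, rfl⟩ := hA
  obtain ⟨τ, hτ, rfl⟩ := hB
  have hn := not_nilpotent_of_rankOne hC hO hσ hτ h
  have hσm := mem_minimalQuadraticElements_iff.1 hσ
  have hτm := mem_minimalQuadraticElements_iff.1 hτ
  obtain ⟨t, ht, hts, hi⟩ := hC.inv hσm hτm hn
  refine ⟨lineGrp _ hi.ss, lineGrp t hi.tt, ?_, ?_, hi.isPSL2PairOver hσm.ne_zero⟩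
  · rintro x ⟨c, hc⟩
    rw [mem_E_iff hσ, hc, add_sub_cancel_left]
    exact (clS G _ hi.ss).smul_mem c (self_mem_cl hσm.1)
  · rintro x ⟨c, hc⟩
    rw [mem_E_iff hτ, hc, add_sub_cancel_left, ← cl_congr hts]
    exact (clS G t hi.tt).smul_mem c (self_mem_cl ht.1)

theorem card_E (hk2 : ringChar k ≠ 2) (hk3 : Nat.card k ≠ 3) {A : Subgroup (LinearMap.GeneralLinearGroup k M)}
    (hA : A ∈ quadraticRootSubgroups G) : 3 < ENat.card A := by
  obtain ⟨σ, hσ, rfl⟩ := hA
  have hσm := mem_minimalQuadraticElements_iff.1 hσ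
  refine lt_of_lt_of_le (three_lt_card (k := k) hk2 hk3) ?_
  have hmem : ∀ c : k, oneAdd (c • ((σ : M →ₗ[k] M) - 1)) (smul_sq hσm.sq c) ∈ sameActionSubgroup G σ := by
    intro c
    rw [mem_E_iff hσ, coe_oneAdd, add_sub_cancel_left]
    exact (clS G _ hσm.sq).smul_mem c (self_mem_cl hσm.1)
  refine ENat.card_le_card_of_injective (f := fun c : k =>
    (⟨oneAdd (c • ((σ : M →ₗ[k] M) - 1)) (smul_sq hσm.sq c), hmem c⟩ : ↥(sameActionSubgroup G σ))) ?_
  intro c d hcd
  have h1 := congrArg (fun x : ↥(sameActionSubgroup G σ) => (((x : LinearMap.GeneralLinearGroup k M)) : M →ₗ[k] M)) hcd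
  simp only [coe_oneAdd] at h1
  have h2 : (c - d) • ((σ : M →ₗ[k] M) - 1) = 0 := by rw [sub_smul, sub_eq_zero]; exact add_left_cancel h1
  rcases smul_eq_zero.1 h2 with h3 | h3
  · exact sub_eq_zero.1 h3
  · exact absurd h3 hσm.ne_zero

end Cfsg.Agent.H742
end
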